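import Cfsg.Agent.LThreeM.SigRow
import Cfsg.Agent.BabyComp.BaseTwo
import Cfsg.Agent.LThreeB.Row
import Cfsg.Agent.BpSpor.MBigCo
import Cfsg.Agent.BpSpor.Tools_m3
import Cfsg.Agent.ThFive.Abs
import Cfsg.Agent.BpSpor.Row.M
import Cfsg.Agent.BpSpor.RowAll
import Cfsg.Agent.MFive.Rho
import Cfsg.Agent.MonsterX.Frames.J8D_m3
import Cfsg.Agent.MFive.KPair
import Cfsg.Agent.S0205
import Cfsg.Agent.SporadicA.GolayFast
import Cfsg.Agent.LThreeMBTr.Main
import Cfsg.Agent.LThreeMBTr.TensK
import Cfsg.Agent.LThreeMB.KPair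
import Cfsg.Agent.CoOneType.InvMain
import Cfsg.Agent.FastGrp
import Cfsg.Agent.Prune
set_option linter.all false

section
prune_inst 0x7ffefffaeffcb9dfffff7e7ffffddffc3994dfffe6dff943ffe9effffbff23e70be5fbaf8de4d0fedef6e23c10b87853fb7eeeffe36fdc7ffffd5ff45ffbee4ff7ffbd0d71dfbcb41ffe0ffff3f37f8e7f3fffffffffffffffffffffffffffffffffffffffff

-- part: BpSpor/MBigEleven
section
prune_inst 0x1000004000000000000000001c4682000090000b80014100004004808e0100000620b080020011000024003a800811000009001000002000820041190080042220c20000a00007000080c802180c00000000000000000000000000000000000000000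
set_option linter.all false
open scoped Cfsg.Agent.FastGrp

-- merged: Cfsg.Agent.BpSpor.MBigPure
section

/-!
# Elementary abelian 2-subgroups of the Monster of order 16 contain elements of the class `2B` (helper12)

* `three` : in the Baby Monster `t`, `b`, `c`, `t b`, `t c`, `b c`, `t b c` are not all transpositions;
* `conj_q` : the image of `f₁` in the Baby Monster is a transposition;
* `not_pure` : an elementary abelian subgroup of order at least 16 of the model contains a conjugate of `z`.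
-/

set_option autoImplicit false
set_option linter.constructorNameAsVariable false
set_option maxRecDepth 100000

open Subgroup

namespace Cfsg.Agent.BpSpor.MBigPure

open Cfsg Cfsg.Lie Cfsg.Agent.Bimonster Cfsg.Agent.Bimonster.Tits Cfsg.Agent.BabyU
open Cfsg.Agent.MonsterX.KSide Cfsg.Agent.MonsterX.KLift Cfsg.Agent.MonsterX.KModel
open Cfsg.Agent.MonsterX.Model Cfsg.Agent.MonsterX.MainPack Cfsg.Agent.MonsterX.MainSimple
open Cfsg.Agent.MonsterX.MainBasic Cfsg.Agent.MonsterU.Assembly Cfsg.Agent.MonsterN.Lit Cfsg.Agent.MonsterN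
open Cfsg.Agent.MonsterN.LitInst Cfsg.Agent.MonsterU.Lam2 Cfsg.Agent.MonsterU.TwoCls
open Cfsg.Agent.BabyComp Cfsg.Agent.R01.Lifts

/-- Three independent commuting transpositions. -/
theorem three {X : Type*} [Group X] {t : X} {M₁ : Subgroup X} (B : BaseTwo.Base2 t M₁) {b c : X}
    (hb : IsConj t b) (hc : IsConj t c) (htb : b * t = t * b) (htc : c * t = t * c) (hbt : b ≠ t) (hct : c ≠ t)
    (hbct : b * c ≠ t) (hbc : IsConj t (b * c)) (h1 : IsConj t (t * b)) (h2 : IsConj t (t * c))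
    (h3 : IsConj t (t * (b * c))) : False := by
  by_cases hbM : b ∈ M₁
  · exact B.prod_ne b hb hbM hbt h1
  by_cases hcM : c ∈ M₁
  · exact B.prod_ne c hc hcM hct h2
  exact B.prod_ne _ hbc (B.M_index b c htb htc hbM hcM) hbct h3

theorem exists_notMem {G : Type*} [Group G] (A : Subgroup G) (l : List G) (h : l.length < Nat.card ↥A) :
    ∃ a ∈ A, a ∉ l := by
  classical
  by_contra hcon
  push Not at hcon
  have hfin : Finite ↥A := Nat.finite_of_card_ne_zero (by omega)
  let f : ↥A → {x // x ∈ l.toFinset} := fun a => ⟨a, List.mem_toFinset.2 (hcon a a.2)⟩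
  have hf : Function.Injective f := fun a b hab => Subtype.ext (congrArg (fun x : {x // x ∈ l.toFinset} => (x : G)) hab)
  have h1 := Nat.card_le_card_of_injective f hf
  rw [Nat.card_eq_fintype_card (α := {x // x ∈ l.toFinset}), Fintype.card_coe] at h1
  have h2 := List.toFinset_card_le l
  omega

/-- an element of order 19 modulo the kernel -/
theorem nineteen_dvd {X B : Type*} [Group X] [Finite X] [Group B] [Finite B] {q : X →* B} {z : X} (hq : _root_.Cfsg.Agent.R01.Lifts.Ext q z) {y : X}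
    (h : 19 ∣ Nat.card ↥(centralizer ({q y} : Set B))) : 19 ∣ Nat.card ↥(centralizer ({y} : Set X)) := by
  have : Fact (Nat.Prime 19) := ⟨by norm_num⟩
  obtain ⟨g, hg⟩ := exists_prime_orderOf_dvd_card' 19 h
  obtain ⟨k, hk⟩ := hq.surj (g : B)
  have hgc : (g : B) * q y = q y * g := mem_centralizer_singleton_iff.1 g.2
  have hgo : orderOf (g : B) = 19 := by rw [Subgroup.orderOf_coe, hg]
  have h1 : q (k * y * k⁻¹ * y⁻¹) = 1 := by
    rw [map_mul, map_mul, map_mul, map_inv, map_inv, hk, hgc]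
    group
  have h2 : k * k * y = y * (k * k) := by
    have hkz := hq.comm k
    rcases (hq.ker _).1 h1 with h3 | h3
    · have h4 : k * y = y * k := by
        calc k * y = (k * y * k⁻¹ * y⁻¹) * (y * k) := by group
          _ = y * k := by rw [h3, one_mul]
      rw [mul_assoc, h4, ← mul_assoc, h4, mul_assoc]
    · have h4 : k * y = z * (y * k) := by
        calc k * y = (k * y * k⁻¹ * y⁻¹) * (y * k) := by group
          _ = z * (y * k) := by rw [h3]
      calc k * k * y = k * (k * y) := by group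
        _ = k * z * (y * k) := by rw [h4]; group
        _ = z * (k * y) * k := by rw [hkz]; group
        _ = (z * z) * y * k * k := by rw [h4]; group
        _ = y * (k * k) := by rw [hq.zz]; group
  have hm : k * k ∈ centralizer ({y} : Set X) := mem_centralizer_singleton_iff.2 h2
  have h3 : orderOf (q (k * k)) = 19 := by
    have h4 : q (k * k) = (g : B) ^ 2 := by rw [map_mul, hk, pow_two]
    rw [h4, orderOf_pow, hgo]
    norm_num
  have h4 : 19 ∣ orderOf (k * k) := by
    rw [← h3]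
    exact orderOf_map_dvd q _
  rw [← Subgroup.orderOf_mk _ hm] at h4
  exact h4.trans (_root_.orderOf_dvd_natCard _)

variable {V P W : Type} [AddCommGroup V] [Module ℚ V] [Group P] [AddCommGroup W] [Module ℚ W]
  {D : MData V} {M : KS ↥D.G V P W} {x₀ : P} {θ : leechLattice → P} {K₀ : Type} [Group K₀]

/-- **`f₁` is a transposition modulo `t`.** -/
theorem exists_q (A : All D K₀) (H : Link D M x₀) (L : Lift M θ) {y : ℕ → D.G} (hP : PRel y) (hne : y 0 ≠ y 1)
    (hy : ∃ g : D.G, g * tG A.hG A.hR * g⁻¹ = y 10) {f₁ f₂ f₃ f₄ : BB M x₀}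
    (Fc : FusionType.Facts (tb M x₀) f₁ f₂ f₃ f₄)
    (hcz : ∀ h, IsConj (tb M x₀ * (f₁ * f₂)) (⟨M.z, h⟩ : BB M x₀))
    (hcd : IsConj M.z ((f₁ * f₂ * f₃ : BB M x₀) : D.G)) :
    ∃ (q : BB M x₀ →* Spor.BabyMonster) (M₁ : Subgroup Spor.BabyMonster), _root_.Cfsg.Agent.R01.Lifts.Ext q (tb M x₀) ∧
      BaseTwo.Base2 (q f₁) M₁ := by
  have hfin : Finite D.G := G_finite A.hO
  have hfB : Finite Spor.BabyMonster := Nat.finite_of_card_ne_zero (by rw [BM.KHAll.card_B]; norm_num)
  obtain ⟨⟨h1, h2, h3⟩, h43⟩ := ModelB.fieldsKS A H L hP hne hy Cfsg.Agent.S1704.result H.x₀_mem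
  have hzm : M.z ∈ BB M x₀ := mem_centralizer_singleton_iff.2 (by
    show M.ι M.zc * M.ι x₀ = M.ι x₀ * M.ι M.zc
    rw [← map_mul, ← map_mul, M.zc_comm])
  have hE : Emb (BB M x₀).subtype M.z (tb M x₀) f₁ f₂ f₃ :=
    ⟨Subtype.val_injective, nineteen H A, ((BB M x₀).subtype.map_isConj (hcz hzm)).symm, hcd⟩
  obtain ⟨q, hq⟩ := NodesLit.exists_ext h1 h3 Fc.cen Fc.t_ne
  obtain ⟨yB, hyB, h10, hπ, -⟩ := LiftB.exists_pre_of_perfect fi_facts hq h2
  have hy4 : q (yB 4) = PresentedGroup.of Spor.BabyMonster.Gen.t1 := hπ .t1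
  have hcard : Nat.card (centralizer ({PresentedGroup.of Spor.BabyMonster.Gen.t1} : Set Spor.BabyMonster)) =
    306129918735099415756800 := BM.KHAll.card_cent .t1
  have hne1 : q (yB 4) ≠ 1 := by
    intro e
    have h3 : centralizer ({1} : Set Spor.BabyMonster) = ⊤ := by
      rw [eq_top_iff]
      intro x _
      rw [mem_centralizer_singleton_iff, mul_one, one_mul]
    rw [← hy4, e, h3, card_top, BM.KHAll.card_B] at hcard
    norm_num at hcard
  have hf : IsConj f₁ (yB 4) := by
    refine conj_of_nineteen Fc hE (hyB.sq 4 (by norm_num) (by norm_num)) ?_ ?_ ?_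
    · intro e; exact hne1 (by rw [e, map_one])
    · intro e; exact hne1 (by rw [e, hq.mapz])
    · refine nineteen_dvd hq ?_
      rw [hy4, hcard]
      norm_num
  have hqf : IsConj (q f₁) (PresentedGroup.of Spor.BabyMonster.Gen.t1 : Spor.BabyMonster) := by
    rw [← hy4]
    exact q.map_isConj hf
  obtain ⟨M₁, hM₁⟩ := BaseTwo.exists_base2 hqf
  exact ⟨q, M₁, hq, hM₁⟩

/-- Type `A`: `w` and `t w` are conjugate to `t`. -/
theorem type_a (A : All D K₀) (H : Link D M x₀) (L : Lift M θ) {f₁ f₂ f₃ f₄ : BB M x₀}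
    (Fc : FusionType.Facts (tb M x₀) f₁ f₂ f₃ f₄)
    (hcz : ∀ h, IsConj (tb M x₀ * (f₁ * f₂)) (⟨M.z, h⟩ : BB M x₀))
    (hcd : IsConj M.z ((f₁ * f₂ * f₃ : BB M x₀) : D.G)) {w : BB M x₀} (hw : w * w = 1) (hw1 : w ≠ 1)
    (hwt : w ≠ tb M x₀) (hc : IsConj (M.ι x₀) (w : D.G)) (hct : IsConj (M.ι x₀) (M.ι x₀ * (w : D.G))) :
    IsConj f₁ w := by
  have hnc := LThreeM.SigPar.not_conj A H L
  have hzm : M.z ∈ BB M x₀ := mem_centralizer_singleton_iff.2 (by
    show M.ι M.zc * M.ι x₀ = M.ι x₀ * M.ι M.zc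
    rw [← map_mul, ← map_mul, M.zc_comm])
  rcases Fc.classes w hw hw1 hwt with h | h | h | h
  · exact h
  · exfalso
    have h1 := FusionType.conj_mul_t Fc.cen h
    have h2 := (BB M x₀).subtype.map_isConj ((hcz hzm).symm.trans h1)
    exact hnc (h2.trans hct.symm)
  · exfalso
    have h2 := (BB M x₀).subtype.map_isConj ((hcz hzm).symm.trans h)
    exact hnc (h2.trans hc.symm)
  · exfalso
    have h2 := (BB M x₀).subtype.map_isConj h
    exact hnc ((hcd.trans h2).trans hc.symm)

/-- **No elementary abelian subgroup of order 16 all of whose involutions are conjugate to `ι x₀`.** -/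
theorem not_pure_t (A : All D K₀) (H : Link D M x₀) (L : Lift M θ) {τ : D.G} {y' : P}
    (T : Cfsg.Agent.MonsterU.InvTwo.TauHyp M θ ⊤ τ y') {y : ℕ → D.G} (hP : PRel y) (hne : y 0 ≠ y 1)
    (hy : ∃ g : D.G, g * tG A.hG A.hR * g⁻¹ = y 10) (E : Subgroup D.G) (hE : ∀ a ∈ E, a * a = 1)
    (hc : 16 ≤ Nat.card ↥E) (ht : M.ι x₀ ∈ E) : ∃ w ∈ E, w ≠ 1 ∧ ¬ IsConj (M.ι x₀) w := by
  by_contra hcon
  push Not at hcon
  obtain ⟨f₁, f₂, f₃, f₄, Fc, hcz, hcd, -⟩ := FusInst.exists_facts A H L T H.x₀_mem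
  obtain ⟨q, M₁, hq, hB⟩ := exists_q A H L hP hne hy Fc hcz hcd
  set t := M.ι x₀ with ht'
  have htt : t * t = 1 := hE t ht
  -- `E` is abelian
  have hab : ∀ a ∈ E, ∀ b ∈ E, a * b = b * a := by
    intro a ha b hb
    have h1 := hE _ (mul_mem ha hb)
    have h2 : a * b = (a * b)⁻¹ := eq_inv_of_mul_eq_one_left h1
    have ha' : a⁻¹ = a := inv_eq_of_mul_eq_one_left (hE a ha)
    have hb' : b⁻¹ = b := inv_eq_of_mul_eq_one_left (hE b hb)
    rw [mul_inv_rev, ha', hb'] at h2
    exact h2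
  obtain ⟨a, haE, ha⟩ := exists_notMem E [1, t] (by simp only [List.length]; omega)
  obtain ⟨b, hbE, hb⟩ := exists_notMem E [1, t, a, t * a] (by simp only [List.length]; omega)
  obtain ⟨c, hcE, hc⟩ := exists_notMem E [1, t, a, t * a, b, t * b, a * b, t * (a * b)]
    (by simp only [List.length]; omega)
  simp only [List.mem_cons, List.not_mem_nil, or_false, not_or] at ha hb hc
  -- lift to `C(t)`
  have key : ∀ w ∈ E, w ≠ 1 → w ≠ t → ∃ w' : BB M x₀, (w' : D.G) = w ∧ IsConj f₁ w' := by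
    intro w hw hw1 hwt
    have hm : w ∈ BB M x₀ := mem_centralizer_singleton_iff.2 (hab w hw t ht)
    refine ⟨⟨w, hm⟩, rfl, type_a A H L Fc hcz hcd (Subtype.ext (hE w hw)) ?_ ?_ (hcon w hw hw1)
      (hcon _ (mul_mem ht hw) ?_)⟩
    · intro h; exact hw1 (congrArg Subtype.val h)
    · intro h; exact hwt (congrArg Subtype.val h)
    · intro h
      apply hwt
      calc w = t * t * w := by rw [htt, one_mul]
        _ = t * (t * w) := by group
        _ = t := by rw [h, mul_one]
  have sqm : ∀ u ∈ E, ∀ v ∈ E, u * v = 1 → v = u := by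
    intro u hu v hv h
    calc v = u * u * v := by rw [hE u hu, one_mul]
      _ = u * (u * v) := by group
      _ = u := by rw [h, mul_one]
  have tqm : ∀ u ∈ E, ∀ v ∈ E, u * v = t → v = t * u := by
    intro u hu v hv h
    calc v = u * u * v := by rw [hE u hu, one_mul]
      _ = u * (u * v) := by group
      _ = t * u := by rw [h, hab u hu t ht]
  obtain ⟨a', ha', hfa⟩ := key a haE ha.1 ha.2
  obtain ⟨b', hb', hfb⟩ := key b hbE hb.1 hb.2.1
  obtain ⟨c', hc', hfc⟩ := key c hcE hc.1 hc.2.1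
  have hab1 : a * b ≠ 1 := fun h => hb.2.2.1 (sqm a haE b hbE h)
  have habt : a * b ≠ t := fun h => hb.2.2.2 (tqm a haE b hbE h)
  have hac1 : a * c ≠ 1 := fun h => hc.2.2.1 (sqm a haE c hcE h)
  have hact : a * c ≠ t := fun h => hc.2.2.2.1 (tqm a haE c hcE h)
  have hbc1 : b * c ≠ 1 := fun h => hc.2.2.2.2.1 (sqm b hbE c hcE h)
  have hbct : b * c ≠ t := fun h => hc.2.2.2.2.2.1 (tqm b hbE c hcE h)
  have habc1 : a * (b * c) ≠ 1 := by
    intro h
    rw [← mul_assoc] at h
    exact hc.2.2.2.2.2.2.1 (sqm _ (mul_mem haE hbE) c hcE h)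
  have habct : a * (b * c) ≠ t := by
    intro h
    rw [← mul_assoc] at h
    exact hc.2.2.2.2.2.2.2 (tqm _ (mul_mem haE hbE) c hcE h)
  -- the class of the products
  have hval : ∀ {u' v' : BB M x₀} {u v : D.G}, (u' : D.G) = u → (v' : D.G) = v → ((u' * v' : BB M x₀) : D.G) = u * v :=
    fun hu hv => by rw [Subgroup.coe_mul, hu, hv]
  have conj_prod : ∀ {u' : BB M x₀} {u : D.G}, (u' : D.G) = u → u ∈ E → u ≠ 1 → u ≠ t → IsConj f₁ u' := by
    intro u' u hu huE hu1 hut
    obtain ⟨w', hw', h⟩ := key u huE hu1 hut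
    have h1 : w' = u' := Subtype.ext (hw'.trans hu.symm)
    rwa [h1] at h
  have cab := conj_prod (hval ha' hb') (mul_mem haE hbE) hab1 habt
  have cac := conj_prod (hval ha' hc') (mul_mem haE hcE) hac1 hact
  have cbc := conj_prod (hval hb' hc') (mul_mem hbE hcE) hbc1 hbct
  have cabc := conj_prod (hval ha' (hval hb' hc')) (mul_mem haE (mul_mem hbE hcE)) habc1 habct
  obtain ⟨g, hg⟩ := isConj_iff.1 hfa.symm
  -- conjugate by `g`
  have hgc : ∀ {u : BB M x₀}, IsConj f₁ u → IsConj (q f₁) (q (g * u * g⁻¹)) := fun h =>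
    q.map_isConj (h.trans (isConj_iff.2 ⟨g, rfl⟩))
  have hqne : ∀ {u' : BB M x₀} {u : D.G}, (u' : D.G) = u → a * u ≠ 1 → a * u ≠ t → q (g * u' * g⁻¹) ≠ q f₁ := by
    intro u' u hu h1 h2 h
    have h3 : q (a' * u') = 1 := by
      rw [← hg, map_mul, map_mul, map_mul, map_mul, map_inv] at h
      have h4 : q u' = q a' := by
        exact mul_left_cancel (mul_right_cancel h)
      have h5 : a' * a' = 1 := Subtype.ext (by rw [Subgroup.coe_mul, ha']; exact hE a haE)
      rw [map_mul, h4, ← map_mul, h5, map_one]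
    rcases (hq.ker _).1 h3 with h4 | h4
    · exact h1 (by rw [← hval ha' hu, h4]; rfl)
    · exact h2 (by rw [← hval ha' hu, h4]; rfl)
  have hcomm : ∀ {u' : BB M x₀} {u : D.G}, (u' : D.G) = u → u ∈ E → q (g * u' * g⁻¹) * q f₁ = q f₁ * q (g * u' * g⁻¹) := by
    intro u' u hu huE
    have h1 : u' * a' = a' * u' := Subtype.ext (by rw [Subgroup.coe_mul, Subgroup.coe_mul, hu, ha']; exact hab u huE a haE)
    rw [← hg, ← map_mul, ← map_mul]
    congr 1
    calc g * u' * g⁻¹ * (g * a' * g⁻¹) = g * (u' * a') * g⁻¹ := by group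
      _ = g * (a' * u') * g⁻¹ := by rw [h1]
      _ = _ := by group
  have hprod : ∀ u' : BB M x₀, q f₁ * q (g * u' * g⁻¹) = q (g * (a' * u') * g⁻¹) := by
    intro u'
    rw [← hg, ← map_mul]
    congr 1
    group
  have hprod2 : q (g * b' * g⁻¹) * q (g * c' * g⁻¹) = q (g * (b' * c') * g⁻¹) := by
    rw [← map_mul]
    congr 1
    group
  refine three hB (b := q (g * b' * g⁻¹)) (c := q (g * c' * g⁻¹)) (hgc hfb) (hgc hfc) (hcomm hb' hbE) (hcomm hc' hcE)
    (hqne hb' hab1 habt) (hqne hc' hac1 hact) ?_ ?_ ?_ ?_ ?_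
  · rw [hprod2]
    exact hqne (hval hb' hc') habc1 habct
  · rw [hprod2]
    exact hgc cbc
  · rw [hprod]
    exact hgc cab
  · rw [hprod]
    exact hgc cac
  · rw [hprod2, hprod]
    exact hgc cabc

end Cfsg.Agent.BpSpor.MBigPure

end

-- merged: Cfsg.Agent.BpSpor.MBigModel
section

/-!
# The concrete model of the Monster: involutions (helper12)

* `cls` : the classes of involutions, `card_cent_z`, `card_cent_t`, `not_sq` : orders of their centralizers;
* `exists_zconj` : an elementary abelian subgroup of order at least 16 contains a conjugate of `z`;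
* `bps_of` : `BpS p Spor.Monster` from `Good p (C(x))` in the model.
-/

set_option autoImplicit false
set_option maxRecDepth 100000

namespace Cfsg.Agent.BpSpor.MBigModel

open Cfsg Cfsg.Agent.MonsterX Cfsg.Agent.MonsterX.InstData Cfsg.Agent.MonsterX.MainPack Cfsg.Agent.MonsterU
open Cfsg.Agent.MonsterP Cfsg.Agent.MonsterN Cfsg.Agent.LThreeMB
open Cfsg.Agent.MonsterX.MainBasic Cfsg.Agent.MonsterX.MainSimple Cfsg.Agent.MonsterX.Model
open Cfsg.Agent.MonsterU.Lam2 Cfsg.Agent.MonsterU.TwoCls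
open Cfsg.Agent.BpTab
open Cfsg.Spor (Co1)
open Subgroup (centralizer zpowers mem_centralizer_singleton_iff)

/-- the model of the Monster -/
abbrev MG : Type := ↥InstData.M.G

/-- the involution `z` -/
noncomputable abbrev zz : MG := KDone.K.z

/-- `C(z) → Co1` -/
noncomputable abbrev pi : centralizer ({zz} : Set MG) →* Co1 := KChart.pi LThreeB.Row.cent

theorem card_M : Nat.card MG = 808017424794512875886459904961710757005754368000000000 :=
  MainOrder.card_G LitFin.all.hG LitFin.all.hR LitFin.all.hL LitFin.all.hO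

theorem finite : Finite MG := G_finite LitFin.all.hO

theorem simple : IsSimpleGroup MG :=
  isSimple LitFin.all.hG LitFin.all.hR LitFin.all.hL LitFin.all.hO LitFin.all.hT

theorem chart : Ch.Chart KDone.K.ι.range zz (KChart.eta KDone.lft) pi := KChart.chart KDone.lft LThreeB.Row.cent

theorem zz_sq : zz * zz = 1 := chart.large.z_sq

theorem zz_ne : zz ≠ 1 := chart.large.z_ne

theorem orderOf_zz : orderOf zz = 2 := by
  have : Fact (Nat.Prime 2) := ⟨Nat.prime_two⟩
  exact orderOf_eq_prime (by rw [pow_two, zz_sq]) zz_ne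

theorem ta_iota {p : _} (hp : IsType 2 (clP KDone.lft p)) : LThreeB.Row.TA (KDone.K.ι p) := by
  obtain ⟨k, hk⟩ := ModelB.exists_conj_t LitFin.all.hG LitFin.all.hR KDone.lnk KDone.lft
    ((TwoCls.mem_Sh_iff KDone.lft p).2 hp)
  exact isConj_iff.2 ⟨k, hk⟩

/-- **The classes of involutions.** -/
theorem cls {v : MG} (hv : orderOf v = 2) : (∃ g : MG, g * zz * g⁻¹ = v) ∨ LThreeB.Row.TA v := by
  have hz : zz = zG LitFin.all.hG := Subtype.ext KDone.lnk.z_eq.symm
  have hvv : v * v = 1 := by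
    rw [← pow_two, ← hv, pow_orderOf_eq_one]
  have hv1 : v ≠ 1 := by
    rintro rfl
    rw [orderOf_one] at hv
    norm_num at hv
  rcases LitFin.all.classes v hvv hv1 with ⟨h, hh⟩ | ⟨h, hh⟩
  · left
    rw [hz]
    exact ⟨h, hh⟩
  · right
    exact isConj_iff.2 ⟨h, hh⟩

theorem card_cent_z : Nat.card ↥(centralizer ({zz} : Set MG)) = 2 ^ 25 * 4157776806543360000 :=
  LThreeM.SigPar.card_cent_z KDone.lnk LitFin.all

theorem card_cent_t {v : MG} (hv : LThreeB.Row.TA v) :
    Nat.card ↥(centralizer ({v} : Set MG)) = 2 * 4154781481226426191177580544000000 := by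
  have h1 : IsConj (tG LitFin.all.hG LitFin.all.hR) v := hv
  have h2 : IsConj (tG LitFin.all.hG LitFin.all.hR) _ := LThreeB.Par.ta_iota LitFin.all KDone.lnk KDone.lft
  obtain ⟨c, hc⟩ := isConj_iff.1 (h2.symm.trans h1)
  rw [← LThreeM.SigPar.card_cent_t LitFin.all KDone.lnk KDone.lft]
  exact BpSpor.card_cent_of_conj hc

/-- `p = 11`, `13`: the involution centralizers have cyclic Sylow `p`-subgroups -/
theorem not_sq {p : ℕ} (hp : p = 11 ∨ p = 13) {v : MG} (hv : orderOf v = 2) :
    ¬ p ^ 2 ∣ Nat.card ↥(centralizer ({v} : Set MG)) := by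
  rcases cls hv with ⟨g, hg⟩ | h
  · rw [BpSpor.card_cent_of_conj hg, card_cent_z]
    rcases hp with rfl | rfl <;> norm_num
  · rw [card_cent_t h]
    rcases hp with rfl | rfl <;> norm_num

/-- **A conjugate of `z` in an elementary abelian subgroup of order at least 16.** -/
theorem exists_zconj (E : Subgroup MG) (hE : ∀ a ∈ E, a * a = 1) (hc : 16 ≤ Nat.card ↥E) :
    ∃ w ∈ E, ∃ g : MG, g * zz * g⁻¹ = w := by
  have hfin := finite
  have ho : ∀ w ∈ E, w ≠ 1 → orderOf w = 2 := by
    intro w hw hw1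
    have : Fact (Nat.Prime 2) := ⟨Nat.prime_two⟩
    exact orderOf_eq_prime (by rw [pow_two, hE w hw]) hw1
  obtain ⟨u, hu, hu1⟩ := MBigPure.exists_notMem E [1] (by simp only [List.length]; omega)
  simp only [List.mem_cons, List.not_mem_nil, or_false] at hu1
  rcases cls (ho u hu hu1) with h | h
  · exact ⟨u, hu, h⟩
  · have h2 : IsConj (tG LitFin.all.hG LitFin.all.hR) _ := LThreeB.Par.ta_iota LitFin.all KDone.lnk KDone.lft
    have h1 : IsConj (tG LitFin.all.hG LitFin.all.hR) u := h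
    obtain ⟨c, hcu⟩ := isConj_iff.1 (h1.symm.trans h2)
    let E' : Subgroup MG := E.map (MulAut.conj c).toMonoidHom
    have hE' : ∀ a ∈ E', a * a = 1 := by
      rintro _ ⟨a, ha, rfl⟩
      rw [← map_mul, hE a ha, map_one]
    have hc' : 16 ≤ Nat.card ↥E' := by
      rw [Subgroup.card_map_of_injective (MulAut.conj c).injective]
      exact hc
    obtain ⟨w, ⟨v, hv, rfl⟩, hw1, hw⟩ := MBigPure.not_pure_t LitFin.all KDone.lnk KDone.lft
      (TauInst.tauHyp (Final.cent InstanceFinal.mOrbit Instance.mTrans)) (NodesGrp.prel LitFin.H)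
      (NodesNe.ne LitFin.H) LitFin.conj_ten E' hE' hc' ⟨u, hu, hcu⟩
    refine ⟨v, hv, ?_⟩
    have hv1 : v ≠ 1 := by
      rintro rfl
      exact hw1 (map_one _)
    rcases cls (ho v hv hv1) with h3 | h3
    · exact h3
    · exfalso
      apply hw
      have h4 : IsConj (tG LitFin.all.hG LitFin.all.hR) v := h3
      exact h2.symm.trans (h4.trans (isConj_iff.2 ⟨c, rfl⟩))

theorem center_model : Subgroup.center MG = ⊥ := by
  have h1 := simple
  have h2 := finite
  exact BpSpor.center_eq_bot_of_card h1 (by rw [card_M]; norm_num)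

/-- **The pair from the model.** -/
theorem bps_of {p : ℕ} (hp : p.Prime) (hp2 : p ≠ 2)
    (h : ∀ x : MG, orderOf x = p → _root_.Cfsg.Agent.BpTab.Good p ↥(centralizer ({x} : Set MG))) : BpS p Spor.Monster := by
  have : Fact p.Prime := ⟨hp⟩
  have hfin := finite
  obtain ⟨e⟩ := MonsterP.Equiv.equiv
  have hfin' : Finite Spor.Monster := Finite.of_equiv MG e.symm.toEquiv
  refine bpS_congr e.symm (bpS_of_inner center_model ?_ h)
  exact Inn.m_model Instance.mGroup Instance.mRep Instance.mLat InstanceFinal.mOrbit Instance.mTrans p hp hp2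

end Cfsg.Agent.BpSpor.MBigModel

end

-- merged: Cfsg.Agent.BpSpor.MBigEleven
section

/-!
# S1332: the Monster, `p = 11` (helper12)

`x` of order 11 in the Monster (truth: `C(x) = 11 × M12`).

* `card_inf` : `|C(z) ∩ C(x)| ≤ 4224`;
* `comm_z` : if `C(x)` has even order, `x` commutes with a conjugate of `z`;
* `good_in` : `Good 11 (C(x))` for `x ∈ C(z)`;
* `bps_eleven : BpS 11 Spor.Monster`.
-/

set_option autoImplicit false
set_option maxRecDepth 100000

namespace Cfsg.Agent.BpSpor.MBigEleven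

open Cfsg Cfsg.Agent.MonsterU Cfsg.Agent.LThreeMB
open Cfsg.Agent.MonsterU.Lam2 Cfsg.Agent.MonsterU.TwoCls
open Cfsg.Agent.BpTab Cfsg.Agent.BpSpor.MBigModel Cfsg.Agent.BpSpor.MBig
open Cfsg.Agent.MonsterX Cfsg.Agent.MonsterX.MainBasic Cfsg.Agent.MonsterX.MainSimple Cfsg.Agent.MonsterX.Model
open Cfsg.Agent.MonsterX.MainPack
open Cfsg.Spor (Co1)
open Subgroup (centralizer zpowers mem_centralizer_singleton_iff)

theorem prime11 : Nat.Prime 11 := by norm_num

/-- **The order of `C(z) ∩ C(x)`.** -/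
theorem card_inf {x : centralizer ({zz} : Set MG)} (hx : orderOf x = 11) :
    Nat.card ↥(centralizer ({zz} : Set MG) ⊓ centralizer ({(x : MG)} : Set MG)) ≤ 4224 := by
  have hfin := finite
  have hfc := MBigCo.finite_co1
  have hx11 : x ^ 11 = 1 := by rw [← hx, pow_orderOf_eq_one]
  let f : ↥(centralizer ({zz} : Set MG) ⊓ centralizer ({(x : MG)} : Set MG)) →* Co1 :=
    pi.comp (Subgroup.inclusion inf_le_left)
  have hpx : orderOf (pi x) = 11 := MFive.orderOf_pi chart prime11 (by decide) hx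
  have h1 : Nat.card f.range ≤ 132 := by
    refine le_trans (Subgroup.card_le_of_le ?_) (MBigCo.card_cent hpx)
    rintro _ ⟨d, rfl⟩
    rw [mem_centralizer_singleton_iff]
    show pi (Subgroup.inclusion inf_le_left d) * pi x = pi x * pi (Subgroup.inclusion inf_le_left d)
    rw [← map_mul, ← map_mul]
    congr 1
    exact Subtype.ext (mem_centralizer_singleton_iff.1 d.2.2)
  have h2 : Nat.card f.ker ≤ 32 := by
    have h3 := MFive.card_pre chart (by decide) hx11 (⊤ : AddSubgroup L2)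
    have h4 : Nat.card {v : L2 // v ∈ (⊤ : AddSubgroup L2) ∧ pi x • v = v} = fr (pi x) :=
      Nat.card_congr (Equiv.subtypeEquivRight fun v => ⟨fun h => h.2, fun h => ⟨AddSubgroup.mem_top v, h⟩⟩)
    rw [h4] at h3
    have h5 := MBigCo.fr_le hpx
    have h6 : Nat.card f.ker ≤ Nat.card {q : MG // (q ∈ KDone.K.ι.range ∧ KChart.eta KDone.lft q ∈ (⊤ : AddSubgroup L2)) ∧
        (x : MG) * q = q * x} := by
      refine Nat.card_le_card_of_injective (fun d : f.ker => ⟨((d : ↥(centralizer ({zz} : Set MG) ⊓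
        centralizer ({(x : MG)} : Set MG))) : MG), ⟨?_, AddSubgroup.mem_top _⟩, ?_⟩) ?_
      · exact (chart.pi_eq_one _).1 ((MonoidHom.mem_ker).1 d.2)
      · exact (mem_centralizer_singleton_iff.1 d.1.2.2).symm
      · intro d d' h
        have h' := congrArg Subtype.val h
        exact Subtype.ext (Subtype.ext h')
    refine h6.trans (h3.le.trans ?_)
    omega
  have h3 : Nat.card ↥(centralizer ({zz} : Set MG) ⊓ centralizer ({(x : MG)} : Set MG)) =
      Nat.card f.ker * Nat.card f.range := by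
    rw [← Subgroup.card_mul_index f.ker, Subgroup.index_ker]
  rw [h3]
  calc Nat.card f.ker * Nat.card f.range ≤ 32 * 132 := Nat.mul_le_mul h2 h1
    _ = 4224 := by norm_num

/-- **No action of an element of order 11 on an elementary abelian 2-subgroup of `C(x)`.** -/
theorem noTwo {x : MG} (hx : orderOf x = 11) : NoTwo 11 ↥(centralizer ({x} : Set MG)) := by
  have hfin := finite
  intro A hA m hm hmd hd
  have hm10 : 10 ≤ m := by
    by_contra hlt
    push Not at hlt
    interval_cases m <;> revert hd <;> norm_num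
  have hcA : 2 ^ 10 ∣ Nat.card ↥A := (pow_dvd_pow 2 hm10).trans hmd
  let A' : Subgroup MG := A.map (centralizer ({x} : Set MG)).subtype
  have hcA' : Nat.card ↥A' = Nat.card ↥A := Subgroup.card_map_of_injective (centralizer ({x} : Set MG)).subtype_injective
  have hA' : ∀ a ∈ A', a * a = 1 := by
    rintro _ ⟨a, ha, rfl⟩
    rw [← map_mul, hA a ha, map_one]
  have hA'x : ∀ a ∈ A', a * x = x * a := by
    rintro _ ⟨a, -, rfl⟩
    exact mem_centralizer_singleton_iff.1 a.2
  have hpos : 0 < Nat.card ↥A := Nat.card_pos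
  have h16 : 16 ≤ Nat.card ↥A' := by
    rw [hcA']
    exact le_trans (by norm_num) (Nat.le_of_dvd hpos hcA)
  obtain ⟨w, hw, g, hg⟩ := exists_zconj A' hA' h16
  have hab : ∀ a ∈ A', ∀ b ∈ A', a * b = b * a := by
    intro a ha b hb
    have h1 := hA' _ (mul_mem ha hb)
    have h2 : a * b = (a * b)⁻¹ := eq_inv_of_mul_eq_one_left h1
    have ha' : a⁻¹ = a := inv_eq_of_mul_eq_one_left (hA' a ha)
    have hb' : b⁻¹ = b := inv_eq_of_mul_eq_one_left (hA' b hb)
    rw [mul_inv_rev, ha', hb'] at h2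
    exact h2
  -- conjugate by `g⁻¹`
  have hxz : (g⁻¹ * x * g) * zz = zz * (g⁻¹ * x * g) := by
    have h1 := hA'x w hw
    rw [← hg] at h1
    calc (g⁻¹ * x * g) * zz = g⁻¹ * (x * (g * zz * g⁻¹)) * g := by group
      _ = g⁻¹ * ((g * zz * g⁻¹) * x) * g := by rw [h1]
      _ = zz * (g⁻¹ * x * g) := by group
  let x' : centralizer ({zz} : Set MG) := ⟨g⁻¹ * x * g, mem_centralizer_singleton_iff.2 hxz⟩
  have hx' : orderOf x' = 11 := by
    rw [← Subgroup.orderOf_coe, ← hx]
    show orderOf (g⁻¹ * x * g) = orderOf x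
    have e : g⁻¹ * x * g = MulAut.conj g⁻¹ x := by rw [MulAut.conj_apply, inv_inv]
    rw [e, MulEquiv.orderOf_eq]
  have hle := card_inf hx'
  have hC := (Nat.card_pos (α := ↥(centralizer ({zz} : Set MG) ⊓ centralizer ({(x' : MG)} : Set MG))))
  have h1 : A'.map (MulAut.conj g⁻¹).toMonoidHom ≤
      centralizer ({zz} : Set MG) ⊓ centralizer ({(x' : MG)} : Set MG) := by
    rintro _ ⟨a, ha, rfl⟩
    change g⁻¹ * a * g⁻¹⁻¹ ∈ _
    rw [inv_inv]
    refine ⟨mem_centralizer_singleton_iff.2 ?_, mem_centralizer_singleton_iff.2 ?_⟩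
    · have h1 := hab a ha w hw
      rw [← hg] at h1
      calc (g⁻¹ * a * g) * zz = g⁻¹ * (a * (g * zz * g⁻¹)) * g := by group
        _ = g⁻¹ * ((g * zz * g⁻¹) * a) * g := by rw [h1]
        _ = zz * (g⁻¹ * a * g) := by group
    · show (g⁻¹ * a * g) * (g⁻¹ * x * g) = (g⁻¹ * x * g) * (g⁻¹ * a * g)
      calc (g⁻¹ * a * g) * (g⁻¹ * x * g) = g⁻¹ * (a * x) * g := by group
        _ = g⁻¹ * (x * a) * g := by rw [hA'x a ha]
        _ = _ := by group
  have h2 : 2 ^ 10 ∣ Nat.card ↥(centralizer ({zz} : Set MG) ⊓ centralizer ({(x' : MG)} : Set MG)) := by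
    refine dvd_trans ?_ (Subgroup.card_dvd_of_le h1)
    rw [Subgroup.card_map_of_injective (MulAut.conj g⁻¹).injective, hcA']
    exact hcA
  have h3 : 11 ∣ Nat.card ↥(centralizer ({zz} : Set MG) ⊓ centralizer ({(x' : MG)} : Set MG)) := by
    have hm : (x' : MG) ∈ centralizer ({zz} : Set MG) ⊓ centralizer ({(x' : MG)} : Set MG) :=
      ⟨x'.2, mem_centralizer_singleton_iff.2 rfl⟩
    have h4 : orderOf (x' : MG) = 11 := by rw [Subgroup.orderOf_coe, hx']
    rw [← h4, ← Subgroup.orderOf_mk _ hm]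
    exact orderOf_dvd_natCard _
  have h4 : 2 ^ 10 * 11 ∣ Nat.card ↥(centralizer ({zz} : Set MG) ⊓ centralizer ({(x' : MG)} : Set MG)) :=
    Nat.Coprime.mul_dvd_of_dvd_of_dvd (by norm_num) h2 h3
  have h5 := Nat.le_of_dvd hC h4
  omega

/-- the involution centralizers in `C(x)` -/
theorem not_sq_in {p : ℕ} (hp : p = 11 ∨ p = 13) {x : MG} (t : ↥(centralizer ({x} : Set MG))) (ht : orderOf t = 2) :
    ¬ p ^ 2 ∣ Nat.card ↥(centralizer ({t} : Set ↥(centralizer ({x} : Set MG)))) := by
  have hfin := finite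
  intro h
  have ht' : orderOf (t : MG) = 2 := by rw [Subgroup.orderOf_coe, ht]
  refine not_sq hp ht' (h.trans ?_)
  rw [← Subgroup.card_map_of_injective (centralizer ({x} : Set MG)).subtype_injective]
  refine Subgroup.card_dvd_of_le ?_
  rintro _ ⟨a, ha, rfl⟩
  exact mem_centralizer_singleton_iff.2 (congrArg Subtype.val (mem_centralizer_singleton_iff.1 ha))

/-- **`x` of order 11 commuting with `z`.** -/
theorem good_in {x : centralizer ({zz} : Set MG)} (hx : orderOf x = 11) :
    _root_.Cfsg.Agent.BpTab.Good 11 ↥(centralizer ({(x : MG)} : Set MG)) := by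
  have hfin := finite
  have : Fact (Nat.Prime 11) := ⟨prime11⟩
  have hxo : orderOf (x : MG) = 11 := by rw [Subgroup.orderOf_coe, hx]
  have hx11 : x ^ 11 = 1 := by rw [← hx, pow_orderOf_eq_one]
  have hpx : orderOf (pi x) = 11 := MFive.orderOf_pi chart prime11 (by decide) hx
  have hxm : (x : MG) ∈ centralizer ({(x : MG)} : Set MG) := mem_centralizer_singleton_iff.2 rfl
  have hzm : zz ∈ centralizer ({(x : MG)} : Set MG) :=
    mem_centralizer_singleton_iff.2 (mem_centralizer_singleton_iff.1 x.2).symm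
  have h4 : ∀ q : MG, q ∈ KDone.K.ι.range → q ^ 4 = 1 := fun q hq => MFive.pow_four chart hq
  have hone : ∀ q : MG, q ∈ KDone.K.ι.range → ∀ m : ℕ, Odd m → q ^ m = 1 → q = 1 := fun q hq m hm hqm =>
    MFive.eq_one_of_pow hm hqm (h4 q hq)
  refine good_of_inverted (p := 11) (x := ⟨x, hxm⟩) (z := ⟨zz, hzm⟩) (by norm_num) ?_ ?_ ?_ (noTwo hxo) ?_ ?_
  · rw [Subgroup.orderOf_mk]; exact hxo
  · rw [Subgroup.mem_center_iff]
    intro g
    exact Subtype.ext (mem_centralizer_singleton_iff.1 g.2)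
  · exact fun t ht => not_sq_in (Or.inl rfl) t ht
  · rw [Subgroup.orderOf_mk]; exact orderOf_zz
  · intro N hNz hNn hodd h11
    rw [Subgroup.eq_bot_iff_forall]
    intro n hn
    -- the order of `n`
    have hnm : n ^ Nat.card ↥N = 1 := by
      have : (⟨n, hn⟩ : ↥N) ^ Nat.card ↥N = 1 := pow_card_eq_one'
      exact congrArg Subtype.val this
    have hnm' : (n : MG) ^ Nat.card ↥N = 1 := congrArg Subtype.val hnm
    have hnz : (n : MG) * zz = zz * n := congrArg Subtype.val (mem_centralizer_singleton_iff.1 (hNz hn))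
    let n' : centralizer ({zz} : Set MG) := ⟨n, mem_centralizer_singleton_iff.2 hnz⟩
    have hnx : (n : MG) * x = x * n := mem_centralizer_singleton_iff.1 n.2
    -- `n` commutes with `C_Q(x)`
    have hcomm : ∀ q : MG, q ∈ KDone.K.ι.range → q * (x : MG) = x * q → (n : MG) * q * (n : MG)⁻¹ = q := by
      intro q hq hqx
      have hqz : q * zz = zz * q := chart.large.comm_z q hq
      have hqm : q ∈ centralizer ({(x : MG)} : Set MG) := mem_centralizer_singleton_iff.2 hqx
      have h1 := hNn ⟨q, hqm⟩ (Subtype.ext hqz) n⁻¹ (inv_mem hn)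
      have h2 : n * (⟨q, hqm⟩ * n⁻¹ * (⟨q, hqm⟩ : ↥(centralizer ({(x : MG)} : Set MG)))⁻¹) ∈ N := mul_mem hn h1
      obtain ⟨c, hc⟩ : ∃ c, c = n * (⟨q, hqm⟩ * n⁻¹ * (⟨q, hqm⟩ : ↥(centralizer ({(x : MG)} : Set MG)))⁻¹) := ⟨_, rfl⟩
      rw [← hc] at h2
      have h3 : (c : MG) = (n : MG) * q * (n : MG)⁻¹ * q⁻¹ := by
        rw [hc]
        show (n : MG) * (q * (n : MG)⁻¹ * q⁻¹) = _
        group
      have h5 : (c : MG) ∈ KDone.K.ι.range := by
        rw [h3]
        exact mul_mem (chart.large.conj_mem n hnz q hq) (inv_mem hq)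
      have h6 : c ^ Nat.card ↥N = 1 := by
        have : (⟨c, h2⟩ : ↥N) ^ Nat.card ↥N = 1 := pow_card_eq_one'
        exact congrArg Subtype.val this
      have h7 : (c : MG) = 1 := hone c h5 _ hodd (congrArg Subtype.val h6)
      rw [h7] at h3
      exact mul_inv_eq_one.1 h3.symm
    have hfix : ∀ v : L2, pi x • v = v → pi n' • v = v := by
      intro v hv
      obtain ⟨q, hq, hqx, rfl⟩ := MFive.exists_fix chart (by decide) hx11 hv
      have h1 := chart.eta_conj n' q hq
      have h2 : (n' : MG) * q * (n' : MG)⁻¹ = q := hcomm q hq hqx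
      rw [h2] at h1
      exact h1.symm
    have hpn : pi n' = 1 := by
      refine MBigCo.eq_one_of_fix hpx hodd h11 ?_ ?_ hfix
      · rw [← map_pow]
        have : n' ^ Nat.card ↥N = 1 := Subtype.ext hnm'
        rw [this, map_one]
      · rw [← map_mul, ← map_mul]
        congr 1
        exact Subtype.ext hnx
    have h1 := (chart.pi_eq_one n').1 hpn
    exact Subtype.ext (hone n h1 _ hodd hnm')

/-- **`x` commutes with a conjugate of `z`.** -/
theorem comm_z {x v : MG} (hx : orderOf x = 11) (hv : orderOf v = 2) (hxv : x * v = v * x) :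
    ∃ g : MG, (g * zz * g⁻¹) * x = x * (g * zz * g⁻¹) := by
  have hfin := finite
  rcases cls hv with ⟨g, hg⟩ | ht
  · exact ⟨g, by rw [hg]; exact hxv.symm⟩
  -- an element of order 11 commuting with `z` and an element of the class of `v`
  obtain ⟨x', hx', hpx'⟩ := MFive.KPair.exists_order chart prime11 (by decide) MBigCo.orderOf_s11
  obtain ⟨v₀, h2, hfix⟩ := MBigCo.exists_two MBigCo.orderOf_s11
  have hx11 : x' ^ 11 = 1 := by rw [← hx', pow_orderOf_eq_one]
  obtain ⟨w, hw, hwx, hwv⟩ := MFive.exists_fix chart (by decide) hx11 (v := v₀) (by rw [hpx']; exact hfix)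
  obtain ⟨p, rfl⟩ := hw
  rw [KChart.eta_ι] at hwv
  have hTA : LThreeB.Row.TA (KDone.K.ι p) := ta_iota (by rw [hwv]; exact h2)
  have h3 : IsConj (tG MonsterN.LitFin.all.hG MonsterN.LitFin.all.hR) (KDone.K.ι p) := hTA
  have h4 : IsConj (tG MonsterN.LitFin.all.hG MonsterN.LitFin.all.hR) v := ht
  obtain ⟨c, hc⟩ := isConj_iff.1 (h3.symm.trans h4)
  -- conjugate
  have hxz : (x' : MG) * zz = zz * x' := mem_centralizer_singleton_iff.1 x'.2
  have hyv : (c * x' * c⁻¹) * v = v * (c * x' * c⁻¹) := by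
    rw [← hc]
    calc c * x' * c⁻¹ * (c * KDone.K.ι p * c⁻¹) = c * (x' * KDone.K.ι p) * c⁻¹ := by group
      _ = c * (KDone.K.ι p * x') * c⁻¹ := by rw [hwx]
      _ = _ := by group
  have hyz : (c * x' * c⁻¹) * (c * zz * c⁻¹) = (c * zz * c⁻¹) * (c * x' * c⁻¹) := by
    calc c * x' * c⁻¹ * (c * zz * c⁻¹) = c * (x' * zz) * c⁻¹ := by group
      _ = c * (zz * x') * c⁻¹ := by rw [hxz]
      _ = _ := by group
  have hyo : orderOf (c * (x' : MG) * c⁻¹) = 11 := by
    rw [← MulAut.conj_apply, MulEquiv.orderOf_eq, Subgroup.orderOf_coe, hx']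
  obtain ⟨g, -, k, hk⟩ := CpAutBig.Small.conj_of_sylow prime11 (centralizer ({v} : Set MG)) (not_sq (Or.inl rfl) hv) hx hyo
    (mem_centralizer_singleton_iff.2 hxv) (mem_centralizer_singleton_iff.2 hyv)
  have h5 : (g * x * g⁻¹) * (c * zz * c⁻¹) = (c * zz * c⁻¹) * (g * x * g⁻¹) := by
    have h6 : Commute (c * (x' : MG) * c⁻¹) (c * zz * c⁻¹) := hyz
    have h7 := h6.zpow_left k
    have h8 : (c * (x' : MG) * c⁻¹) ^ k = g * x * g⁻¹ := hk
    rw [h8] at h7
    exact h7
  refine ⟨g⁻¹ * c, ?_⟩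
  have e : g⁻¹ * c * zz * (g⁻¹ * c)⁻¹ = g⁻¹ * (c * zz * c⁻¹) * g := by group
  rw [e]
  calc g⁻¹ * (c * zz * c⁻¹) * g * x = g⁻¹ * ((c * zz * c⁻¹) * (g * x * g⁻¹)) * g := by group
    _ = g⁻¹ * ((g * x * g⁻¹) * (c * zz * c⁻¹)) * g := by rw [h5]
    _ = x * (g⁻¹ * (c * zz * c⁻¹) * g) := by group

/-- **Every `x` of order 11.** -/
theorem good {x : MG} (hx : orderOf x = 11) : _root_.Cfsg.Agent.BpTab.Good 11 ↥(centralizer ({x} : Set MG)) := by
  have hfin := finite
  have : Fact (Nat.Prime 11) := ⟨prime11⟩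
  have : Fact (Nat.Prime 2) := ⟨Nat.prime_two⟩
  by_cases ho : Odd (Nat.card ↥(centralizer ({x} : Set MG)))
  · exact (NoComp.of_solvable (Cfsg.Agent.S0205.result ho)).good
  rw [Nat.not_odd_iff_even] at ho
  obtain ⟨v, hv⟩ := exists_prime_orderOf_dvd_card' 2 ho.two_dvd
  have hv' : orderOf (v : MG) = 2 := by rw [Subgroup.orderOf_coe, hv]
  obtain ⟨g, hg⟩ := comm_z hx hv' (mem_centralizer_singleton_iff.1 v.2).symm
  have h1 : (g⁻¹ * x * g) * zz = zz * (g⁻¹ * x * g) := by
    calc (g⁻¹ * x * g) * zz = g⁻¹ * (x * (g * zz * g⁻¹)) * g := by group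
      _ = g⁻¹ * ((g * zz * g⁻¹) * x) * g := by rw [hg]
      _ = zz * (g⁻¹ * x * g) := by group
  let x' : centralizer ({zz} : Set MG) := ⟨g⁻¹ * x * g, mem_centralizer_singleton_iff.2 h1⟩
  have hx' : orderOf x' = 11 := by
    rw [← Subgroup.orderOf_coe, ← hx]
    show orderOf (g⁻¹ * x * g) = orderOf x
    have e : g⁻¹ * x * g = MulAut.conj g⁻¹ x := by rw [MulAut.conj_apply, inv_inv]
    rw [e, MulEquiv.orderOf_eq]
  refine good_of_conj (u := (x' : MG)) (c := g) ?_ (good_in hx')
  show g * (g⁻¹ * x * g) * g⁻¹ = x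
  group

end Cfsg.Agent.BpSpor.MBigEleven

namespace Cfsg.Agent.BpSpor.M

/-- **The pair `(M, 11)`.** -/
theorem bps_eleven : Cfsg.Agent.BpTab.BpS 11 Cfsg.Spor.Monster :=
  Cfsg.Agent.BpSpor.MBigModel.bps_of Cfsg.Agent.BpSpor.MBigEleven.prime11 (by norm_num)
    fun _ hx => Cfsg.Agent.BpSpor.MBigEleven.good hx

end Cfsg.Agent.BpSpor.M

end
end

-- part: H546/MElevenCo
section
prune_inst 0x1000510034620000000000002000002420000090004080014000004008010240800000000200000000080a800000000811000080020000000a000000000100000002000000340c00060000800006000000000000000000000000000000000000000000000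
set_option linter.all false
open scoped Cfsg.Agent.FastGrp

/-!
# The centraliser of an element of order 11 in `Co1` (helper546; task 944 for helper154, S2120)

* `card_perm` : `C_{M24}(pi11)` has at most 11 elements;
* `card_cent` : `|C_{Co1}(s)| ≤ 66` for `s` of order 11;
* `eq_one_of_fix_two` : a 2-element of `Co1` commuting with `s` and trivial on the fixed points of `s` on `Λ / 2 Λ` is
  trivial;
* `fr_eq` : `s` has 16 fixed points on `Λ / 2 Λ`.
-/

set_option autoImplicit false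
open scoped Pointwise

namespace Cfsg.Agent.H546.MElevenPerm

open Cfsg Cfsg.Agent.SporadicA.GolayBase Cfsg.Agent.SporadicStructure.TabPerm
open Cfsg.Agent.CpAutBig.FixCount Cfsg.Agent.CpAutBig.Tab
open Cfsg.Agent.MonsterX.FrameStab (IsPerm)
open Cfsg.Agent.BpSpor.MBigPerm

private theorem _root_.Cfsg.Agent.KOe60af0c.e0.{ku} {M : Nat → Sort ku} (φ : ∀ n, M n) {z : M Nat.zero} {s : ∀ n, M n → M (Nat.succ n)} (h0 : φ Nat.zero = z) (hs : ∀ n, φ (Nat.succ n) = s n (φ n)) (n : Nat) : φ n = @Nat.rec M z s n := Nat.rec h0 (fun n ih => (hs n).trans (congrArg (s n) ih)) n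
private noncomputable def _root_.Cfsg.Agent.KOe60af0c.k1 : (by first | exact type_of% @Cfsg.Agent.SporadicA.GolayBase.allR | exact Unit : Sort _) := by first | (refine @Subtype.val _ (fun g => @Cfsg.Agent.SporadicA.GolayBase.allR = @g) (@Subtype.mk _ _ (@(fun (x0 : @Nat) (x1 : @Nat) (x2 : (@Nat → @Bool)) => @Nat.rec.{1} @(fun (x3 : @Nat) => (@Nat → ((@Nat → @Bool) → @Bool))) @(fun (x3 : @Nat) (x4 : (@Nat → @Bool)) => @x4 @x3) @(fun (x3 : @Nat) (x4 : (@Nat → ((@Nat → @Bool) → @Bool))) (x5 : @Nat) (x6 : (@Nat → @Bool)) => @Bool.rec.{1} @(fun (x7 : @Bool) => @Bool) @Bool.false (@x4 (@Nat.add @x5 (@Nat.pow (nat_lit 2) @x3)) @x6) (@x4 @x5 @x6)) @x0 @x1 @x2)) ?_); funext a0 a1 a2; refine (congrFun (congrFun (_root_.Cfsg.Agent.KOe60af0c.e0 (fun a0 a1 a2 => @Cfsg.Agent.SporadicA.GolayBase.allR a0 a1 a2) ?_ (fun c0 => ?_) a0) a1) a2 :) <;> (rfl')) | exact @Cfsg.Agent.SporadicA.GolayBase.allR | exact ()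
private theorem _root_.Cfsg.Agent.KOe60af0c.e1 : (by first | exact @Cfsg.Agent.SporadicA.GolayBase.allR = @_root_.Cfsg.Agent.KOe60af0c.k1 | exact True : Prop) := by first | (delta _root_.Cfsg.Agent.KOe60af0c.k1; exact @Subtype.property _ (fun g => @Cfsg.Agent.SporadicA.GolayBase.allR = @g) _) | rfl | trivial
private noncomputable def _root_.Cfsg.Agent.KOe60af0c.k2 : (@Bool → (@Bool → @Bool)) := @(fun (x0 : @Bool) (x1 : @Bool) => @Bool.rec.{1} @(fun (x2 : @Bool) => @Bool) @x1 @Bool.true @x0)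
private theorem _root_.Cfsg.Agent.KOe60af0c.e2 : @Bool.or = @_root_.Cfsg.Agent.KOe60af0c.k2 := by delta _root_.Cfsg.Agent.KOe60af0c.k2; rfl'
private noncomputable def _root_.Cfsg.Agent.KOe60af0c.k3 : (@Bool → @Bool) := @(fun (x0 : @Bool) => @Bool.rec.{1} @(fun (x1 : @Bool) => @Bool) @Bool.true @Bool.false @x0)
private theorem _root_.Cfsg.Agent.KOe60af0c.e3 : @Bool.not = @_root_.Cfsg.Agent.KOe60af0c.k3 := by delta _root_.Cfsg.Agent.KOe60af0c.k3; rfl'
private noncomputable def _root_.Cfsg.Agent.KOe60af0c.k4 : (@Bool → (@Bool → @Bool)) := @(fun (x0 : @Bool) (x1 : @Bool) => @Bool.rec.{1} @(fun (x2 : @Bool) => @Bool) @Bool.false @x1 @x0)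
private theorem _root_.Cfsg.Agent.KOe60af0c.e4 : @Bool.and = @_root_.Cfsg.Agent.KOe60af0c.k4 := by delta _root_.Cfsg.Agent.KOe60af0c.k4; rfl'
private noncomputable def _root_.Cfsg.Agent.KOe60af0c.oEq.{ku} (α : Sort ku) (a b : Nat) (f t : α) : α := @Decidable.rec (a = b) (fun _ => α) (fun _ => f) (fun _ => t) (Nat.decEq a b)
private noncomputable def _root_.Cfsg.Agent.KOe60af0c.k5.{ku} (α : Sort ku) (a b : Nat) (f t : α) : α := @Bool.rec (fun _ => α) f t (Nat.beq a b)
private theorem _root_.Cfsg.Agent.KOe60af0c.e5.{ku} : @_root_.Cfsg.Agent.KOe60af0c.oEq.{ku} = @_root_.Cfsg.Agent.KOe60af0c.k5.{ku} := funext fun α => funext fun a => funext fun b => funext fun f => funext fun t => by delta _root_.Cfsg.Agent.KOe60af0c.oEq _root_.Cfsg.Agent.KOe60af0c.k5; cases h : Nat.beq a b <;> cases Nat.decEq a b <;> rename_i g <;> first | rfl | exact absurd g (Nat.ne_of_beq_eq_false h) | exact absurd (Nat.eq_of_beq_eq_true h) g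
private noncomputable def _root_.Cfsg.Agent.KOe60af0c.k6 : (@Nat → (@Nat → @Bool)) := @(fun (x0 : @Nat) (x1 : @Nat) => @Bool.rec.{1} @(fun (x2 : @Bool) => @Bool) @Bool.true @Bool.false (@Cfsg.Agent.KOe60af0c.k5.{1} @Bool (@Nat.land (nat_lit 1) (@Nat.shiftRight @x0 @x1)) (nat_lit 0) @Bool.false @Bool.true))
private theorem _root_.Cfsg.Agent.KOe60af0c.e6 : @Nat.testBit = @_root_.Cfsg.Agent.KOe60af0c.k6 := by delta _root_.Cfsg.Agent.KOe60af0c.k6; rewrite [← Cfsg.Agent.KOe60af0c.e5.{1}]; rfl'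
private noncomputable def _root_.Cfsg.Agent.KOe60af0c.k7 : (by first | exact type_of% @Cfsg.Agent.SporadicA.GolayBase.enc | exact Unit : Sort _) := by first | (refine @Subtype.val _ (fun g => @Cfsg.Agent.SporadicA.GolayBase.enc = @g) (@Subtype.mk _ _ (@_root_.Cfsg.Agent.GolayF.en) ?_); exact _root_.Cfsg.Agent.GolayF.enc_eq) | exact @Cfsg.Agent.SporadicA.GolayBase.enc | exact ()
private theorem _root_.Cfsg.Agent.KOe60af0c.e7 : (by first | exact @Cfsg.Agent.SporadicA.GolayBase.enc = @_root_.Cfsg.Agent.KOe60af0c.k7 | exact True : Prop) := by first | (delta _root_.Cfsg.Agent.KOe60af0c.k7; exact @Subtype.property _ (fun g => @Cfsg.Agent.SporadicA.GolayBase.enc = @g) _) | rfl | trivial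
private noncomputable def _root_.Cfsg.Agent.KOe60af0c.k8 : (by first | exact type_of% @Cfsg.Agent.SporadicA.GolayBase.popcount | exact Unit : Sort _) := by first | (refine @Subtype.val _ (fun g => @Cfsg.Agent.SporadicA.GolayBase.popcount = @g) (@Subtype.mk _ _ (@_root_.Cfsg.Agent.GolayF.pp) ?_); exact _root_.Cfsg.Agent.GolayF.popcount_eq) | exact @Cfsg.Agent.SporadicA.GolayBase.popcount | exact ()
private theorem _root_.Cfsg.Agent.KOe60af0c.e8 : (by first | exact @Cfsg.Agent.SporadicA.GolayBase.popcount = @_root_.Cfsg.Agent.KOe60af0c.k8 | exact True : Prop) := by first | (delta _root_.Cfsg.Agent.KOe60af0c.k8; exact @Subtype.property _ (fun g => @Cfsg.Agent.SporadicA.GolayBase.popcount = @g) _) | rfl | trivial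

/-- no octad contains the six points -/
theorem no_octad : allR 12 0 (fun i => !((enc i).testBit 23 && ((enc i).testBit 5 && ((enc i).testBit 15 &&
    ((enc i).testBit 17 && ((enc i).testBit 22 && (enc i).testBit 14))))) || !(Nat.beq (popcount (enc i)) 8)) = true := by
  (first | (rewrite [Cfsg.Agent.KOe60af0c.e1, Cfsg.Agent.KOe60af0c.e2, Cfsg.Agent.KOe60af0c.e3, Cfsg.Agent.KOe60af0c.e4, Cfsg.Agent.KOe60af0c.e6, Cfsg.Agent.KOe60af0c.e7, Cfsg.Agent.KOe60af0c.e8]; decide +kernel) | decide +kernel)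

/-- the octad -/
def m0 : ℕ := 1053483

theorem m0_octad : fin m0 ∈ octads := (fin_mem_octads_iff (by decide)).2 ⟨by decide +kernel, by decide +kernel⟩

theorem bit_of {σ : Equiv.Perm GolayPt} (hc : σ * pi11 = pi11 * σ) (h1 : idx (σ (pt 1)) = 5) {e j k : ℕ} (hj : j < 24)
    (he : (fun j => F11.getD j 0)^[e] 1 = j) (hm : m0.testBit j = true) (hk : (fun j => F11.getD j 0)^[e] 5 = k) :
    (maskOf (σ • fin m0)).testBit k = true := by
  have h4 : (pi11 ^ e : Equiv.Perm GolayPt) (pt 1) = pt j := by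
    apply idx_injective
    rw [show idx ((pi11 ^ e : Equiv.Perm GolayPt) (pt 1)) = (fun j => F11.getD j 0)^[e] (idx (pt 1)) from
      idx_iter chk11 e _, idx_pt (by norm_num), he, idx_pt hj]
  have k1 : σ ((pi11 ^ e : Equiv.Perm GolayPt) (pt 1)) = (pi11 ^ e : Equiv.Perm GolayPt) (σ (pt 1)) :=
    iter_comm chk11 hc e _
  have k2 : idx (σ (pt j)) = k := by
    rw [← h4, k1, show idx ((pi11 ^ e : Equiv.Perm GolayPt) (σ (pt 1))) = (fun j => F11.getD j 0)^[e] (idx (σ (pt 1))) from
      idx_iter chk11 e _, h1, hk]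
  rw [← k2, testBit_maskOf, decide_eq_true_iff]
  apply Finset.smul_mem_smul_finset
  rw [mem_fin, idx_pt hj]
  exact hm

theorem no_swap {σ : Equiv.Perm GolayPt} (hσ : σ ∈ M24) (hc : σ * pi11 = pi11 * σ) (h0 : idx (σ (pt 0)) = 23)
    (h1 : idx (σ (pt 1)) = 5) : False := by
  have h2 := smul_mem_octads hσ m0_octad
  obtain ⟨hcode, hpop⟩ := (mem_octads_iff _).1 h2
  obtain ⟨i, hi, hm⟩ := isCode_iff_exists.1 hcode
  have b23 : (maskOf (σ • fin m0)).testBit (idx (σ (pt 0))) = true := by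
    rw [testBit_maskOf, decide_eq_true_iff]
    apply Finset.smul_mem_smul_finset
    rw [mem_fin, idx_pt (by norm_num)]
    decide
  rw [h0] at b23
  have b5 := bit_of hc h1 (e := 0) (j := 1) (k := 5) (by norm_num) (by decide) (by decide) (by decide)
  have b15 := bit_of hc h1 (e := 8) (j := 3) (k := 15) (by norm_num) (by decide) (by decide) (by decide)
  have b17 := bit_of hc h1 (e := 3) (j := 8) (k := 17) (by norm_num) (by decide) (by decide) (by decide)
  have b22 := bit_of hc h1 (e := 5) (j := 9) (k := 22) (by norm_num) (by decide) (by decide) (by decide)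
  have b14 := bit_of hc h1 (e := 10) (j := 12) (k := 14) (by norm_num) (by decide) (by decide) (by decide)
  rw [hm] at b23 b5 b15 b17 b22 b14 hpop
  have h3 := allR_zero_spec no_octad i hi
  have h4 : Nat.beq (popcount (enc i)) 8 = true := by rw [hpop]; rfl
  rw [b23, b5, b15, b17, b22, b14, h4] at h3
  exact absurd h3 (by decide)

theorem orbit_check : ∀ z < 24, z ≠ 23 → (O11 23).testBit z = true → ∃ e < 11, (fun j => F11.getD j 0)^[e] z = 5 := by
  decide +kernel

/-- an element of `C_{M24}(pi11)` fixes the two fixed points -/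
theorem fix_zero {σ : Equiv.Perm GolayPt} (hσ : σ ∈ M24) (hc : σ * pi11 = pi11 * σ) : idx (σ (pt 0)) = 0 := by
  rcases fix_image hc (Or.inl rfl) with h | h
  · exact h
  exfalso
  -- the image of the point 1
  have h1 : (O11 23).testBit (idx (σ (pt 1))) = true := by
    rw [← mem_fin, ← h, ← smul_O11 hσ hc (pi11_fix (Or.inl rfl))]
    apply Finset.smul_mem_smul_finset
    rw [mem_fin, idx_pt (by norm_num), idx_pt (by norm_num)]
    decide +kernel
  have h2 : idx (σ (pt 1)) ≠ 23 := by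
    rw [← h]
    exact idx_ne (by norm_num) (by norm_num) (by norm_num)
  obtain ⟨e, -, he⟩ := orbit_check _ (idx_lt _) h2 h1
  have hc' : (pi11 ^ e * σ) * pi11 = pi11 * (pi11 ^ e * σ) := by
    have k : pi11 ^ e * pi11 = pi11 * pi11 ^ e := by rw [← pow_succ, ← pow_succ']
    rw [mul_assoc, hc, ← mul_assoc, k, mul_assoc]
  refine no_swap (M24.mul_mem (M24.pow_mem pi11_mem e) hσ) hc' ?_ ?_
  · show idx ((pi11 ^ e : Equiv.Perm GolayPt) (σ (pt 0))) = 23
    rw [show idx ((pi11 ^ e : Equiv.Perm GolayPt) (σ (pt 0))) = (fun j => F11.getD j 0)^[e] (idx (σ (pt 0))) from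
      idx_iter chk11 e _, h]
    exact Function.iterate_fixed (by decide) e
  · show idx ((pi11 ^ e : Equiv.Perm GolayPt) (σ (pt 1))) = 5
    rw [show idx ((pi11 ^ e : Equiv.Perm GolayPt) (σ (pt 1))) = (fun j => F11.getD j 0)^[e] (idx (σ (pt 1))) from
      idx_iter chk11 e _, he]

/-- the possible images of the point 1 -/
def cand : List ℕ := (List.range 24).filter fun z => (O11 0).testBit z && !(Nat.beq 0 z)

theorem length_cand : cand.length = 11 := by decide +kernel

theorem mem_cand {σ : Equiv.Perm GolayPt} (hσ : σ ∈ M24) (hc : σ * pi11 = pi11 * σ) : idx (σ (pt 1)) ∈ cand := by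
  have h := fix_zero hσ hc
  have h1 : (O11 0).testBit (idx (σ (pt 1))) = true := by
    rw [← mem_fin, ← h, ← smul_O11 hσ hc (pi11_fix (Or.inl rfl))]
    apply Finset.smul_mem_smul_finset
    rw [mem_fin, idx_pt (by norm_num), idx_pt (by norm_num)]
    decide +kernel
  have h2 : 0 ≠ idx (σ (pt 1)) := by
    rw [← h]
    exact idx_ne (by norm_num) (by norm_num) (by norm_num)
  unfold cand
  refine List.mem_filter.2 ⟨List.mem_range.2 (idx_lt _), ?_⟩
  rw [h1, Bool.true_and]
  have h3 : Nat.beq 0 (idx (σ (pt 1))) = false := by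
    rw [← Bool.not_eq_true]
    intro h4
    exact h2 (Nat.eq_of_beq_eq_true h4)
  rw [h3]
  rfl

/-- **The elements of `M24` commuting with `pi11`.** -/
theorem card_perm : Nat.card {σ : Equiv.Perm GolayPt // σ ∈ M24 ∧ σ * pi11 = pi11 * σ} ≤ 11 := by
  classical
  let f : {σ : Equiv.Perm GolayPt // σ ∈ M24 ∧ σ * pi11 = pi11 * σ} → cand.toFinset := fun σ =>
    ⟨idx (σ.1 (pt 1)), List.mem_toFinset.2 (mem_cand σ.2.1 σ.2.2)⟩
  have hf : Function.Injective f := by
    intro σ σ' h
    have h1 := congrArg Subtype.val h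
    refine Subtype.ext (pair_inj σ.2.1 σ.2.2 σ'.2.1 σ'.2.2 (idx_injective ?_) (idx_injective h1))
    rw [fix_zero σ.2.1 σ.2.2, fix_zero σ'.2.1 σ'.2.2]
  have h2 := Nat.card_le_card_of_injective f hf
  rw [Nat.card_eq_fintype_card (α := cand.toFinset), Fintype.card_coe] at h2
  exact h2.trans ((List.toFinset_card_le _).trans length_cand.le)

/-- **The centraliser in `Co0`.** -/
theorem card_le [Finite Co0] {r : Co0} (hr : IsPerm r pi11) : Nat.card {A : Co0 // A * r = r * A} ≤ 132 := by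
  obtain ⟨v, hv, hv48, hne⟩ := exists_family chk11 CY11_check W11_code A11_check REP11_check A11_ne A11_pair
  exact Cfsg.Agent.CpAutBig.FixCount.card_le (π := pi11) hr (i₀ := pt 0) (pi11_fix (Or.inl rfl)) (vals chk11 REP11 4)
    (vals_injective chk11 REP11_iter) v hv hv48 hne card_words11 card_perm

end Cfsg.Agent.H546.MElevenPerm

namespace Cfsg.Agent.H546.MElevenCo

open Cfsg Cfsg.Spor Cfsg.Agent.LeechMat.Core
open Cfsg.Agent.SporadicA.GolayBase Cfsg.Agent.SporadicStructure.TabPerm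
open Cfsg.Agent.MonsterX.FrameStab (IsPerm)
open Cfsg.Agent.MonsterU.Lam2
open Cfsg.Agent.BpSpor.MBigPerm Cfsg.Agent.BpSpor.MBigCo
open Cfsg.Agent.SporadicStructure.Co0Base
open Cfsg.Agent.SporadicA.Co0Mono (signCo0 permCo0 permCo0_smul permMap_apply perm_mul_sign_mul_inv signCo0_mul_self
  signCo0_add signCo0_inv wordPerm sgn signCo0_smul signMap_apply signCo0_zero)
open Cfsg.Agent.SporadicA.Co1Simple (N perm_eq_one sign_perm_pow exists_sign_perm mem_N_of_e8 e8_sub
  mem_crossSet_of_congr allOne)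
open Cfsg.Agent.CoOneType.ClosingFacts
open Cfsg.Agent.LThreeMB (fr)
open Cfsg.Agent.CpAutBig
open Subgroup (centralizer zpowers mem_centralizer_singleton_iff)

theorem card_cent_r11 : Nat.card ↥(centralizer ({r11} : Set Co0)) ≤ 132 := by
  have hfin := CoZero.finite_co0
  refine le_trans (le_of_eq ?_) (MElevenPerm.card_le isPerm_r11)
  apply Nat.card_congr
  exact Equiv.subtypeEquivRight fun a => mem_centralizer_singleton_iff

theorem card_cent_s11 : Nat.card ↥(centralizer ({s11} : Set Co1)) ≤ 66 := by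
  have hfin := CoZero.finite_co0
  let q : ↥(centralizer ({r11} : Set Co0)) →* Co1 :=
    (QuotientGroup.mk' (Subgroup.center Co0)).comp (centralizer ({r11} : Set Co0)).subtype
  have hq : ∀ a, q a = mk (a : Co0) := fun a => rfl
  have h1 : q.range = centralizer ({s11} : Set Co1) := by
    apply le_antisymm
    · rintro _ ⟨a, rfl⟩
      rw [mem_centralizer_singleton_iff]
      have h2 := mem_centralizer_singleton_iff.1 a.2
      show mk ((a : Co0) * r11) = mk (r11 * a)
      rw [h2]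
    · intro s hs
      obtain ⟨a, rfl⟩ := exists_mk s
      have h2 : mk r11 * mk a = mk a * mk r11 := (mem_centralizer_singleton_iff.1 hs).symm
      have h3 := LThreeBX.NoSeven.comm_of_mk (n := 11) (by decide) r11_pow h2
      exact ⟨⟨a, mem_centralizer_singleton_iff.2 h3.symm⟩, rfl⟩
  have h2 : 2 ≤ Nat.card q.ker := by
    have hm : (signCo0 allOne : Co0) ∈ centralizer ({r11} : Set Co0) :=
      mem_centralizer_singleton_iff.2 (LThreeBX.NoSeven.n_comm r11)
    have hk : (⟨signCo0 allOne, hm⟩ : ↥(centralizer ({r11} : Set Co0))) ∈ q.ker := by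
      rw [MonoidHom.mem_ker, hq, mk_eq_one]
      exact Or.inr rfl
    have h3 : Nontrivial ↥q.ker := by
      refine ⟨⟨⟨_, hk⟩, 1, ?_⟩⟩
      intro h
      exact LThreeBX.NoSeven.n_ne (congrArg (fun x : ↥q.ker => ((x : ↥(centralizer ({r11} : Set Co0))) : Co0)) h)
    exact Finite.one_lt_card
  have h3 : Nat.card ↥(centralizer ({r11} : Set Co0)) = Nat.card q.ker * Nat.card q.range := by
    rw [← Subgroup.card_mul_index q.ker, Subgroup.index_ker]
  rw [h1] at h3
  have h4 := card_cent_r11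
  rw [h3] at h4
  nlinarith [h4, h2]

/-- **`|C_{Co1}(s)| ≤ 66`** -/
theorem card_cent {s : Co1} (hs : orderOf s = 11) : Nat.card ↥(centralizer ({s} : Set Co1)) ≤ 66 := by
  obtain ⟨g, hg⟩ := conj_eleven hs
  rw [CoZero.card_centralizer_of_conj (by norm_num) hs orderOf_s11 hg]
  exact card_cent_s11

/-! ### 2-elements -/

/-- an element of `M24` of 2-power order commuting with `pi11` -/
theorem perm_one_two {τ : M24} {k : ℕ} (hτ : τ ^ 2 ^ k = 1)
    (hc : τ * ⟨pi11, pi11_mem⟩ = ⟨pi11, pi11_mem⟩ * τ) : τ = 1 := by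
  classical
  let P : Subgroup M24 := centralizer ({⟨pi11, pi11_mem⟩} : Set M24)
  have hP : Nat.card ↥P ≤ 11 := by
    refine le_trans (le_of_eq ?_) MElevenPerm.card_perm
    refine Nat.card_congr ⟨fun x => ⟨((x : M24) : Equiv.Perm GolayPt), (x : M24).2, ?_⟩,
      fun x => ⟨⟨x.1, x.2.1⟩, ?_⟩, fun x => rfl, fun x => rfl⟩
    · exact congrArg Subtype.val (mem_centralizer_singleton_iff.1 x.2)
    · exact mem_centralizer_singleton_iff.2 (Subtype.ext x.2.2)
  have hfin : Finite ↥P := inferInstance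
  have hm : (⟨pi11, pi11_mem⟩ : M24) ∈ P := mem_centralizer_singleton_iff.2 rfl
  have hτm : τ ∈ P := mem_centralizer_singleton_iff.2 hc
  have : Fact (Nat.Prime 11) := ⟨by norm_num⟩
  have ho : orderOf (⟨⟨pi11, pi11_mem⟩, hm⟩ : ↥P) = 11 := by
    rw [Subgroup.orderOf_mk]
    refine orderOf_eq_prime (Subtype.ext pi11_pow) ?_
    intro h
    exact pi11_ne_one (congrArg Subtype.val h)
  have h1 : 11 ∣ Nat.card ↥P := by
    rw [← ho]; exact orderOf_dvd_natCard _
  have hpos : 0 < Nat.card ↥P := Nat.card_pos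
  have h11 : Nat.card ↥P = 11 := le_antisymm hP (Nat.le_of_dvd hpos h1)
  have h2 : orderOf (⟨τ, hτm⟩ : ↥P) ∣ Nat.card ↥P := orderOf_dvd_natCard _
  rw [Subgroup.orderOf_mk, h11] at h2
  have h3 : orderOf τ ∣ 2 ^ k := orderOf_dvd_of_pow_eq_one hτ
  have h5 : orderOf τ ∣ Nat.gcd 11 (2 ^ k) := Nat.dvd_gcd h2 h3
  have h6 : Nat.gcd 11 (2 ^ k) = 1 := Nat.Coprime.pow_right k (by norm_num)
  rw [h6] at h5
  exact orderOf_eq_one_iff.1 (Nat.dvd_one.1 h5)

/-- a fixed vector with odd coordinates -/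
theorem exists_odd_vec : ∃ v : leechLattice, r11 • v = v ∧ ∀ p, (v : GolayPt → ℤ) p % 2 = 1 := by
  have h := Tab.chkv_spec (CY := CY11) (a := 30613) (m := 1) (w := 340831) (Or.inr rfl) (by decide +kernel)
    (by decide +kernel)
  refine ⟨⟨Tab.xv CY11 30613, h.1⟩, ?_, ?_⟩
  · apply Subtype.ext
    funext p
    rw [isPerm_r11]
    change Tab.xv CY11 30613 (pi11.symm p) = Tab.xv CY11 30613 p
    obtain ⟨q, rfl⟩ := pi11.surjective p
    rw [Equiv.symm_apply_apply]
    unfold Tab.xv
    rw [idx_pi11, CY11_check _ (idx_lt q)]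
  · intro p
    have h1 : ∀ i < 24, Tab.dg 30613 (CY11.getD i 0) % 2 = 1 := by decide +kernel
    exact h1 _ (idx_lt p)

/-- a sign change fixing the class of a vector with odd coordinates is `± 1` -/
theorem sign_one {c : golayCode} {v : leechLattice} (hv : ∀ p, (v : GolayPt → ℤ) p % 2 = 1)
    (h : cl (signCo0 c • v) = cl v) : mk (signCo0 c) = 1 := by
  obtain ⟨u, hu⟩ := cl_eq.1 h
  have hu' : ∀ p, sgn ((c : GolayPt → ZMod 2) p) * (v : GolayPt → ℤ) p - (v : GolayPt → ℤ) p = 2 * (u : GolayPt → ℤ) p := by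
    intro p
    have h1 := congrArg (fun x : leechLattice => (x : GolayPt → ℤ) p) hu
    have h2 : ((signCo0 c • v - v : leechLattice) : GolayPt → ℤ) p =
        sgn ((c : GolayPt → ZMod 2) p) * (v : GolayPt → ℤ) p - (v : GolayPt → ℤ) p := rfl
    have h3 : ((2 • u : leechLattice) : GolayPt → ℤ) p = 2 * (u : GolayPt → ℤ) p := by
      change (2 • (u : GolayPt → ℤ)) p = _
      rw [Pi.smul_apply, nsmul_eq_mul]
      rfl
    rw [← h2, ← h3]
    exact h1
  obtain ⟨m, hm⟩ := (Cfsg.Agent.Leech.Basic.mem_leech_iff_isLeech _).1 u.2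
  have hz : ∀ a : ZMod 2, a = 0 ∨ a = 1 := by decide
  have h0 : ∀ p, (c : GolayPt → ZMod 2) p = 0 → (u : GolayPt → ℤ) p = 0 := by
    intro p hp
    have h1 := hu' p
    rw [hp, Cfsg.Agent.SporadicA.Co0Mono.sgn_zero] at h1
    omega
  have h1' : ∀ p, (c : GolayPt → ZMod 2) p = 1 → (u : GolayPt → ℤ) p % 2 = 1 := by
    intro p hp
    have h1 := hu' p
    have h2 := hv p
    rw [hp, Cfsg.Agent.SporadicA.Co0Mono.sgn_one] at h1
    omega
  have hpar : ∀ p q, (u : GolayPt → ℤ) p % 2 = (u : GolayPt → ℤ) q % 2 := by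
    intro p q
    exact (hm.par p).trans (hm.par q).symm
  rw [mk_eq_one]
  by_cases hc : (c : GolayPt → ZMod 2) (pt 0) = 0
  · left
    have hc0 : c = 0 := by
      apply Subtype.ext
      funext p
      rcases hz ((c : GolayPt → ZMod 2) p) with h2 | h2
      · exact h2
      · exfalso
        have h3 := h1' p h2
        have h4 := h0 _ hc
        have h5 := hpar p (pt 0)
        rw [h4, h3] at h5
        norm_num at h5
    rw [hc0, signCo0_zero]
  · right
    have hc1 := (hz ((c : GolayPt → ZMod 2) (pt 0))).resolve_left hc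
    have hc0 : c = allOne := by
      apply Subtype.ext
      funext p
      rcases hz ((c : GolayPt → ZMod 2) p) with h2 | h2
      · exfalso
        have h3 := h1' _ hc1
        have h4 := h0 _ h2
        have h5 := hpar p (pt 0)
        rw [h4, h3] at h5
        norm_num at h5
      · exact h2
    rw [hc0]

/-- **A 2-element commuting with `s` and trivial on the fixed points of `s` is trivial.** -/
theorem eq_one_of_fix_two {s x : Co1} (hx : orderOf x = 11) {k : ℕ} (hs : s ^ 2 ^ k = 1)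
    (hc : s * x = x * s) (hf : ∀ v : L2, x • v = v → s • v = v) : s = 1 := by
  obtain ⟨g, hg⟩ := conj_eleven hx
  have hgx : orderOf (g * x * g⁻¹) = 11 := by
    rw [← MulAut.conj_apply, MulEquiv.orderOf_eq, hx]
  have hz := mem_swap (by norm_num) hgx orderOf_s11 hg
  have hcg : (g * s * g⁻¹) * (g * x * g⁻¹) = (g * x * g⁻¹) * (g * s * g⁻¹) := by
    calc (g * s * g⁻¹) * (g * x * g⁻¹) = g * (s * x) * g⁻¹ := by group
      _ = g * (x * s) * g⁻¹ := by rw [hc]
      _ = _ := by group
  have hc' : (g * s * g⁻¹) * s11 = s11 * (g * s * g⁻¹) := by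
    obtain ⟨k, hk⟩ := hz
    have h1 : Commute (g * s * g⁻¹) (g * x * g⁻¹) := hcg
    have h2 := h1.zpow_right k
    have h3 : (g * x * g⁻¹) ^ k = s11 := hk
    rw [h3] at h2
    exact h2
  have hs' : (g * s * g⁻¹) ^ 2 ^ k = 1 := by rw [conj_pow, hs, mul_one, mul_inv_cancel]
  obtain ⟨a, ha⟩ := exists_mk (g * s * g⁻¹)
  have hac : a * r11 = r11 * a := by
    have h1 : mk r11 * mk a = mk a * mk r11 := by
      rw [ha]
      exact hc'.symm
    exact (LThreeBX.NoSeven.comm_of_mk (n := 11) (by decide) r11_pow h1).symm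
  -- the fixed classes
  have hfix : ∀ v : leechLattice, r11 • v = v → (g * s * g⁻¹) • cl v = cl v := by
    intro v hv
    have h0 : s11 • cl v = cl v := by
      have h1 : s11 • cl v = cl (r11 • v) := rfl
      rw [h1, hv]
    have h1 := fix_of_mem hg h0
    have h2 : x • (g⁻¹ • cl v) = g⁻¹ • cl v := by
      rw [mul_smul, mul_smul] at h1
      rw [← eq_inv_smul_iff] at h1
      exact h1
    have h3 := hf _ h2
    rw [mul_smul, mul_smul, h3, smul_inv_smul]
  have haN : a ∈ N := by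
    apply mem_N_of_cl (i₀ := pt 0)
    have h1 : cl (a • e8 (pt 0)) = mk a • cl (e8 (pt 0)) := rfl
    rw [h1, ha]
    exact hfix _ (FixCount.fix_e8 isPerm_r11 (pi11_fix (Or.inl rfl)))
  have ha2 : a ^ 2 ^ (k + 1) = 1 := by
    have h1 : mk (a ^ 2 ^ k) = 1 := by
      have h2 : mk (a ^ 2 ^ k) = (mk a) ^ 2 ^ k := rfl
      rw [h2, ha, hs']
    rw [pow_succ, pow_mul, pow_two]
    rcases (mk_eq_one _).1 h1 with h2 | h2
    · rw [h2, one_mul]
    · rw [h2, signCo0_mul_self]
  obtain ⟨c, τ, rfl⟩ := exists_sign_perm haN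
  have h1 : τ * ⟨pi11, pi11_mem⟩ = ⟨pi11, pi11_mem⟩ * τ := comm_of_N hac
  have h2 : τ ^ 2 ^ (k + 1) = 1 := by
    obtain ⟨d, hd⟩ := sign_perm_pow c τ (2 ^ (k + 1))
    rw [hd] at ha2
    exact perm_eq_one ha2
  have h3 := perm_one_two h2 h1
  rw [h3, map_one, mul_one] at ha
  obtain ⟨v, hv, hv1⟩ := exists_odd_vec
  have h4 : cl (signCo0 c • v) = cl v := by
    have h5 : cl (signCo0 c • v) = mk (signCo0 c) • cl v := rfl
    rw [h5, ha]
    exact hfix v hv
  rw [sign_one hv1 h4] at ha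
  have h5 : g * s * g⁻¹ = 1 := ha.symm
  calc s = g⁻¹ * (g * s * g⁻¹) * g := by group
    _ = 1 := by rw [h5]; group

/-! ### The number of fixed points -/

/-- the points of `L2` fixed by `s` -/
def fixSub (s : Co1) : AddSubgroup L2 where
  carrier := {v | s • v = v}
  add_mem' := by
    intro a b ha hb
    change s • (a + b) = a + b
    rw [smul_add, ha, hb]
  zero_mem' := smul_zero s
  neg_mem' := by
    intro a ha
    change s • (-a) = -a
    rw [smul_neg, ha]

theorem card_fixSub (s : Co1) : Nat.card ↥(fixSub s) = fr s := rfl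

theorem fr_dvd (s : Co1) : fr s ∣ 2 ^ 24 := by
  rw [← card_fixSub, ← card_L2]
  exact AddSubgroup.card_addSubgroup_dvd_card _

theorem fr_ge : 13 ≤ fr s11 := by
  obtain ⟨v, hv, hv48, hne⟩ := Tab.exists_family chk11 CY11_check W11_code A11_check REP11_check A11_ne A11_pair
  have hfin : Finite ↥(fixSub s11) := by
    have : Finite L2 := Nat.finite_of_card_ne_zero (by rw [card_L2]; norm_num)
    infer_instance
  have key : ∀ o, s11 • cl ⟨((FixCount.rp v o : FixCount.LF pi11) : GolayPt → ℤ), (FixCount.rp v o).2.1⟩ =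
      cl ⟨((FixCount.rp v o : FixCount.LF pi11) : GolayPt → ℤ), (FixCount.rp v o).2.1⟩ := by
    intro o
    have h1 : s11 • cl ⟨((FixCount.rp v o : FixCount.LF pi11) : GolayPt → ℤ), (FixCount.rp v o).2.1⟩ =
      cl (r11 • ⟨((FixCount.rp v o : FixCount.LF pi11) : GolayPt → ℤ), (FixCount.rp v o).2.1⟩) := rfl
    rw [h1]
    congr 1
    apply Subtype.ext
    funext p
    rw [isPerm_r11]
    obtain ⟨q, rfl⟩ := pi11.surjective p
    rw [Equiv.symm_apply_apply]
    exact ((FixCount.rp v o).2.2 q).symm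
  have h1 : Nat.card (Option (Fin A11.length)) ≤ Nat.card ↥(fixSub s11) := by
    refine Nat.card_le_card_of_injective (fun o => ⟨_, key o⟩) ?_
    intro o o' h
    have h2 := congrArg Subtype.val h
    obtain ⟨u, hu⟩ := cl_eq.1 h2
    have h3 : ((FixCount.rp v o : FixCount.LF pi11) : GolayPt → ℤ) - ((FixCount.rp v o' : FixCount.LF pi11) : GolayPt → ℤ) =
        2 • (u : GolayPt → ℤ) := congrArg Subtype.val hu
    have e1 := FixCount.sqNorm_rp v hv48 o
    have e2 := FixCount.sqNorm_rp v hv48 o'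
    exact FixCount.rp_inj v hv hne (FixCount.sqNorm_congr (FixCount.rp v o').2.1 u.2 h3 (by linarith))
  rw [card_fixSub] at h1
  refine le_trans (le_of_eq ?_) h1
  rw [Nat.card_eq_fintype_card, Fintype.card_option, Fintype.card_fin]
  rfl

theorem fr_eq_s11 : fr s11 = 16 := by
  have h1 := fr_ge
  have h2 : fr s11 ≤ 2 ^ 4 := fr_s11
  have h3 := fr_dvd s11
  generalize fr s11 = n at *
  norm_num at h2
  interval_cases n
  · norm_num at h3
  · norm_num at h3
  · norm_num at h3
  · rfl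

/-- **16 fixed points.** -/
theorem fr_eq {s : Co1} (hs : orderOf s = 11) : fr s = 16 := by
  obtain ⟨g, hg⟩ := conj_eleven hs
  have hgx : orderOf (g * s * g⁻¹) = 11 := by
    rw [← MulAut.conj_apply, MulEquiv.orderOf_eq, hs]
  have hz := mem_swap (by norm_num) hgx orderOf_s11 hg
  have h1 : fr (g * s * g⁻¹) = fr s11 := by
    refine Nat.card_congr (Equiv.subtypeEquivRight fun v => ⟨fun h => fix_of_mem hz h, fun h => fix_of_mem hg h⟩)
  rw [← LThreeMB.fr_conj g s, h1]
  exact fr_eq_s11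

/-- **A fixed class of type 4.** -/
theorem exists_four {s : Co1} (hs : orderOf s = 11) : ∃ v : L2, IsType 4 v ∧ s • v = v := by
  obtain ⟨g, hg⟩ := conj_eleven hs
  have h2 : IsType 4 (cl (e8 (pt 0))) := ⟨_, FixCount.sqNorm_e8' _, rfl⟩
  have h4 := fix_of_mem hg s11_e8
  refine ⟨g⁻¹ • cl (e8 (pt 0)), h2.smul1 _, ?_⟩
  rw [mul_smul, mul_smul] at h4
  rw [← eq_inv_smul_iff] at h4
  exact h4

end Cfsg.Agent.H546.MElevenCo
end

-- part: H546/MElevenB
section
prune_inst 0x10005100046200000000000000001c06a2000090004b8001410000400c808e4100000620b0b00200000000840038004811000000001000000000020041190080000300020034ac00160000808802000000000000000000000000000000000000000000000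
set_option linter.all false
open scoped Cfsg.Agent.FastGrp

-- part: H546/MElevenA
section
/-!
# `C(x) ∩ C(z)` for `x` of order 11 in the Monster (helper546; task 944 for helper154, S2120)

`x : MG` of order 11 commuting with `zz`; `T x = C_Q(x)`, `D x = C(zz) ∩ C(x)`.

* `card_D_le` : `|D x| ≤ 2112`;
* `card_T` : `|T x| = 32`, `T_le : T x ≤ D x`, `exists_comm` : `T x` is not abelian, with commutator `zz`;
* `two_comm` : a 2-element of `D x` commuting with `T x` is `1` or `zz`;
* `exists_four` : `y ∈ T x` with `y`, `y zz` conjugate to `zz`;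
* `odd_normal` : a normal subgroup of `D x` of odd order prime to 11 is trivial.
-/

set_option autoImplicit false

namespace Cfsg.Agent.H546.MElevenA

open Cfsg Cfsg.Agent.MonsterU
open Cfsg.Agent.MonsterU.Lam2
open Cfsg.Agent.BpSpor.MBigModel Cfsg.Agent.BpSpor.MBigEleven
open Cfsg.Agent.MonsterX
open Cfsg.Agent.LThreeMB (fr)
open Cfsg.Agent.LThreeMB
open Cfsg.Spor (Co1)
open Subgroup (centralizer zpowers mem_centralizer_singleton_iff)

/-- `C_Q(x)` -/
noncomputable def T (x : MG) : Subgroup MG := KDone.K.ι.range ⊓ centralizer ({x} : Set MG)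

/-- `C(zz) ∩ C(x)` -/
noncomputable abbrev D (x : MG) : Subgroup MG := centralizer ({zz} : Set MG) ⊓ centralizer ({x} : Set MG)

theorem mem_T {x q : MG} : q ∈ T x ↔ q ∈ KDone.K.ι.range ∧ q * x = x * q := by
  unfold T
  rw [Subgroup.mem_inf, mem_centralizer_singleton_iff]

theorem mem_D {x q : MG} : q ∈ D x ↔ q * zz = zz * q ∧ q * x = x * q := by
  rw [Subgroup.mem_inf, mem_centralizer_singleton_iff, mem_centralizer_singleton_iff]

/-- `x` as an element of `C(zz)` -/
noncomputable def up {x : MG} (hz : x * zz = zz * x) : centralizer ({zz} : Set MG) :=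
  ⟨x, mem_centralizer_singleton_iff.2 hz⟩

theorem orderOf_up {x : MG} (hx : orderOf x = 11) (hz : x * zz = zz * x) : orderOf (up hz) = 11 := by
  rw [up, Subgroup.orderOf_mk, hx]

theorem up_pow {x : MG} (hx : orderOf x = 11) (hz : x * zz = zz * x) : up hz ^ 11 = 1 := by
  rw [← orderOf_up hx hz, pow_orderOf_eq_one]

theorem orderOf_pi {x : MG} (hx : orderOf x = 11) (hz : x * zz = zz * x) : orderOf (pi (up hz)) = 11 :=
  MFive.orderOf_pi chart prime11 (by decide) (orderOf_up hx hz)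

/-- **`T x ≤ D x`** -/
theorem T_le (x : MG) : T x ≤ D x := by
  intro q hq
  rw [mem_T] at hq
  rw [mem_D]
  exact ⟨chart.large.comm_z q hq.1, hq.2⟩

theorem zz_mem_T {x : MG} (hz : x * zz = zz * x) : zz ∈ T x := mem_T.2 ⟨chart.large.z_mem, hz.symm⟩

/-- **The order of `C_Q(x)`.** -/
theorem card_T {x : MG} (hx : orderOf x = 11) (hz : x * zz = zz * x) : Nat.card ↥(T x) = 32 := by
  have h3 := MFive.card_pre chart (by decide) (up_pow hx hz) (⊤ : AddSubgroup L2)
  have h4 : Nat.card {v : L2 // v ∈ (⊤ : AddSubgroup L2) ∧ pi (up hz) • v = v} = fr (pi (up hz)) :=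
    Nat.card_congr (Equiv.subtypeEquivRight fun v => ⟨fun h => h.2, fun h => ⟨AddSubgroup.mem_top v, h⟩⟩)
  rw [h4, MElevenCo.fr_eq (orderOf_pi hx hz)] at h3
  have h5 : Nat.card ↥(T x) = Nat.card {q : MG // (q ∈ KDone.K.ι.range ∧
      KChart.eta KDone.lft q ∈ (⊤ : AddSubgroup L2)) ∧ ((up hz : centralizer ({zz} : Set MG)) : MG) * q =
      q * (up hz : centralizer ({zz} : Set MG))} := by
    refine Nat.card_congr (Equiv.subtypeEquivRight fun q => ?_)
    rw [mem_T]
    exact ⟨fun h => ⟨⟨h.1, AddSubgroup.mem_top _⟩, h.2.symm⟩, fun h => ⟨h.1.1, h.2.symm⟩⟩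
  rw [h5, h3]

/-- every fixed point of `pi x` comes from `T x` -/
theorem exists_T {x : MG} (hx : orderOf x = 11) (hz : x * zz = zz * x) {v : L2} (hv : pi (up hz) • v = v) :
    ∃ q ∈ T x, KChart.eta KDone.lft q = v := by
  obtain ⟨q, hq, hqx, rfl⟩ := MFive.exists_fix chart (by decide) (up_pow hx hz) hv
  exact ⟨q, mem_T.2 ⟨hq, hqx⟩, rfl⟩

/-- an element of `T x` commuting with `T x` is `1` or `zz` -/
theorem center_T {x : MG} (hx : orderOf x = 11) (hz : x * zz = zz * x) {g : MG} (hg : g ∈ T x)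
    (hgT : ∀ t ∈ T x, g * t = t * g) : g = 1 ∨ g = zz := by
  rw [mem_T] at hg
  exact MFive.cent_PP chart (by decide) (up_pow hx hz) hg.1 hg.2 fun w hw hwx => hgT w (mem_T.2 ⟨hw, hwx⟩)

/-- **A 2-element of `D x` commuting with `T x`.** -/
theorem two_comm {x : MG} (hx : orderOf x = 11) (hz : x * zz = zz * x) {g : MG} (hg : g ∈ D x) {k : ℕ}
    (hk : g ^ 2 ^ k = 1) (hgT : ∀ t ∈ T x, g * t = t * g) : g = 1 ∨ g = zz := by
  have hg' := mem_D.1 hg
  have hpg : pi (up hg'.1) = 1 := by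
    refine MElevenCo.eq_one_of_fix_two (orderOf_pi hx hz) (k := k) ?_ ?_ ?_
    · rw [← map_pow]
      have : up hg'.1 ^ 2 ^ k = 1 := Subtype.ext hk
      rw [this, map_one]
    · rw [← map_mul, ← map_mul]
      congr 1
      exact Subtype.ext hg'.2
    · intro v hv
      obtain ⟨q, hq, rfl⟩ := exists_T hx hz hv
      have h1 := chart.eta_conj (up hg'.1) q (mem_T.1 hq).1
      have h2 : ((up hg'.1 : centralizer ({zz} : Set MG)) : MG) * q *
          ((up hg'.1 : centralizer ({zz} : Set MG)) : MG)⁻¹ = q := by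
        show g * q * g⁻¹ = q
        rw [hgT q hq, mul_inv_cancel_right]
      rw [h2] at h1
      exact h1.symm
  exact center_T hx hz (mem_T.2 ⟨(chart.pi_eq_one _).1 hpg, hg'.2⟩) hgT

theorem not_four_zero : ¬ IsType 4 (0 : L2) := InvPair.not_zero_four

/-- **The four-group.** -/
theorem exists_four {x : MG} (hx : orderOf x = 11) (hz : x * zz = zz * x) :
    ∃ y ∈ T x, y ≠ 1 ∧ y ≠ zz ∧ y * y = 1 ∧ (∃ g : MG, g * zz * g⁻¹ = y) ∧ (∃ g : MG, g * zz * g⁻¹ = y * zz) := by
  have hfin := finite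
  have hs := simple
  obtain ⟨v, h4, hv⟩ := MElevenCo.exists_four (orderOf_pi hx hz)
  obtain ⟨y, hy, rfl⟩ := exists_T hx hz hv
  have hyQ := (mem_T.1 hy).1
  have hyz : y * zz ∈ KDone.K.ι.range := mul_mem hyQ chart.large.z_mem
  refine ⟨y, hy, ?_, ?_, ?_, conj_of_type_four chart hyQ h4, conj_of_type_four chart hyz ?_⟩
  · rintro rfl
    rw [chart.eta_one] at h4
    exact not_four_zero h4
  · intro h
    rw [h, chart.eta_z] at h4
    exact not_four_zero h4
  · rw [chart.sq_one hyQ]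
    exact CloseLat.qf_four h4
  · rw [chart.eta_mul _ hyQ _ chart.large.z_mem, chart.eta_z, add_zero]
    exact h4

/-- **`T x` is not abelian.** -/
theorem exists_comm {x : MG} (hx : orderOf x = 11) (hz : x * zz = zz * x) :
    ∃ a ∈ T x, ∃ b ∈ T x, a * b = b * a * zz := by
  obtain ⟨y, hy, hy1, hyz, -⟩ := exists_four hx hz
  by_contra hcon
  push Not at hcon
  rcases center_T hx hz hy (fun t ht =>
    (chart.large.comm y (mem_T.1 hy).1 t (mem_T.1 ht).1).resolve_right (hcon y hy t ht)) with h | h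
  · exact hy1 h
  · exact hyz h

/-- **A normal subgroup of `D x` of odd order prime to 11.** -/
theorem odd_normal {x : MG} (hx : orderOf x = 11) (hz : x * zz = zz * x) {N : Subgroup MG} (hN : N ≤ D x)
    (hNn : ∀ c ∈ D x, ∀ n ∈ N, c * n * c⁻¹ ∈ N) (hodd : Odd (Nat.card ↥N)) (h11 : ¬ 11 ∣ Nat.card ↥N) : N = ⊥ := by
  have h4 : ∀ q : MG, q ∈ KDone.K.ι.range → q ^ 4 = 1 := fun q hq => MFive.pow_four chart hq
  have hone : ∀ q : MG, q ∈ KDone.K.ι.range → ∀ m : ℕ, Odd m → q ^ m = 1 → q = 1 := fun q hq m hm hqm =>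
    MFive.eq_one_of_pow hm hqm (h4 q hq)
  rw [Subgroup.eq_bot_iff_forall]
  intro n hn
  have hpow : ∀ c ∈ N, c ^ Nat.card ↥N = 1 := by
    intro c hc
    have : (⟨c, hc⟩ : ↥N) ^ Nat.card ↥N = 1 := pow_card_eq_one'
    exact congrArg Subtype.val this
  have hnD := mem_D.1 (hN hn)
  -- `n` commutes with `T x`
  have hcomm : ∀ q ∈ T x, n * q * n⁻¹ = q := by
    intro q hq
    have h1 := hNn q (T_le x hq) n⁻¹ (inv_mem hn)
    have h2 : n * (q * n⁻¹ * q⁻¹) ∈ N := mul_mem hn h1
    have h3 : n * (q * n⁻¹ * q⁻¹) = n * q * n⁻¹ * q⁻¹ := by group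
    rw [h3] at h2
    have h5 : n * q * n⁻¹ * q⁻¹ ∈ KDone.K.ι.range :=
      mul_mem (chart.large.conj_mem n hnD.1 q (mem_T.1 hq).1) (inv_mem (mem_T.1 hq).1)
    exact mul_inv_eq_one.1 (hone _ h5 _ hodd (hpow _ h2))
  have hpn : pi (up hnD.1) = 1 := by
    refine BpSpor.MBigCo.eq_one_of_fix (orderOf_pi hx hz) hodd h11 ?_ ?_ ?_
    · rw [← map_pow]
      have : up hnD.1 ^ Nat.card ↥N = 1 := Subtype.ext (hpow n hn)
      rw [this, map_one]
    · rw [← map_mul, ← map_mul]
      congr 1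
      exact Subtype.ext hnD.2
    · intro v hv
      obtain ⟨q, hq, rfl⟩ := exists_T hx hz hv
      have h1 := chart.eta_conj (up hnD.1) q (mem_T.1 hq).1
      have h2 : ((up hnD.1 : centralizer ({zz} : Set MG)) : MG) * q *
          ((up hnD.1 : centralizer ({zz} : Set MG)) : MG)⁻¹ = q := hcomm q hq
      rw [h2] at h1
      exact h1.symm
  exact hone n ((chart.pi_eq_one _).1 hpn) _ hodd (hpow n hn)

end Cfsg.Agent.H546.MElevenA
end

-- part: H546/MElevenB
section
/-!
# Exact orders (helper546; S2120)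

* `card_cent_eq` : `|C_{Co1}(s)| = 66` for `s` of order 11;
* `card_D` : `|C(zz) ∩ C(x)| = 2112` for `x` of order 11 in the Monster commuting with `zz`.
-/

set_option autoImplicit false

namespace Cfsg.Agent.H546.MElevenB

open Cfsg Cfsg.Spor Cfsg.Agent.LeechMat.Core
open Cfsg.Agent.SporadicA.GolayBase Cfsg.Agent.SporadicStructure.TabPerm
open Cfsg.Agent.BpSpor.MBigPerm Cfsg.Agent.BpSpor.MBigCo
open Cfsg.Agent.SporadicStructure.Co0Base
open Cfsg.Agent.SporadicA.Co0Mono (signCo0 permCo0 permCo0_smul permMap_apply perm_mul_sign_mul_inv signCo0_mul_self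
  signCo0_add signCo0_inv wordPerm wordPerm_apply sgn signCo0_smul signMap_apply signCo0_zero)
open Cfsg.Agent.SporadicA.Co1Simple (allOne)
open Cfsg.Agent.CoOneType.ClosingFacts
open Cfsg.Agent.CpAutBig
open Subgroup (centralizer zpowers mem_centralizer_singleton_iff)

/-! ### The order of the normaliser of a Sylow subgroup of prime order -/

/-- `|N(P) : C(P)|` divides `p - 1` for `|P| = p` -/
theorem relIndex_dvd {G : Type*} [Group G] [Finite G] {p : ℕ} (hp : p.Prime) (P : Subgroup G) (hP : Nat.card ↥P = p) :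
    (centralizer (P : Set G)).relIndex (Subgroup.normalizer (P : Set G)) ∣ p - 1 := by
  have : Fact p.Prime := ⟨hp⟩
  have : IsCyclic ↥P := isCyclic_of_prime_card hP
  have key := Subgroup.card_dvd_of_injective _ (QuotientGroup.kerLift_injective P.normalizerMonoidHom)
  rw [Subgroup.normalizerMonoidHom_ker, ← Subgroup.index, ← Subgroup.relIndex] at key
  rwa [IsCyclic.card_mulAut, hP, Nat.totient_prime hp] at key

/-- **Sylow's theorem for a Sylow subgroup of prime order.** -/
theorem card_eq {G : Type*} [Group G] [Finite G] {p : ℕ} (hp : p.Prime) {x : G} (hx : orderOf x = p)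
    (hsq : ¬ p ^ 2 ∣ Nat.card G) :
    ∃ e k : ℕ, e ∣ p - 1 ∧ Nat.card G = Nat.card ↥(centralizer ({x} : Set G)) * e * (p * k + 1) := by
  have : Fact p.Prime := ⟨hp⟩
  have hPc : Nat.card ↥(zpowers x) = p := by rw [Nat.card_zpowers, hx]
  have hdvd : p ∣ Nat.card G := by rw [← hx]; exact orderOf_dvd_natCard x
  have hf : (Nat.card G).factorization p = 1 := by
    have h1 : 1 ≤ (Nat.card G).factorization p :=
      (hp.dvd_iff_one_le_factorization Nat.card_pos.ne').1 hdvd
    have h2 : ¬ 2 ≤ (Nat.card G).factorization p := by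
      intro h
      exact hsq ((hp.pow_dvd_iff_le_factorization Nat.card_pos.ne').2 h)
    omega
  let P : Sylow p G := Sylow.ofCard (zpowers x) (by rw [hf, pow_one, hPc])
  have hP : (P : Subgroup G) = zpowers x := rfl
  have h1 := card_sylow_modEq_one p G
  rw [P.card_eq_index_normalizer] at h1
  have h2 := relIndex_dvd hp (zpowers x) hPc
  have hcent : centralizer ((zpowers x : Subgroup G) : Set G) = centralizer ({x} : Set G) := by
    apply le_antisymm
    · exact Subgroup.centralizer_le (Set.singleton_subset_iff.2 (Subgroup.mem_zpowers x))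
    · intro g hg
      rw [Subgroup.mem_centralizer_iff]
      rintro _ ⟨k, rfl⟩
      have h3 : Commute x g := (mem_centralizer_singleton_iff.1 hg).symm
      exact h3.zpow_left k
  have hle : centralizer ((zpowers x : Subgroup G) : Set G) ≤ Subgroup.normalizer ((zpowers x : Subgroup G) : Set G) :=
    Subgroup.centralizer_le_normalizer _
  have h3 := Subgroup.relIndex_mul_index hle
  have h4 := (centralizer ((zpowers x : Subgroup G) : Set G)).card_mul_index
  rw [← h3] at h4
  have hpos : 0 < (Subgroup.normalizer ((zpowers x : Subgroup G) : Set G)).index := Nat.pos_of_ne_zero Subgroup.index_ne_zero_of_finite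
  obtain ⟨k, hk⟩ : ∃ k, (Subgroup.normalizer ((zpowers x : Subgroup G) : Set G)).index = p * k + 1 := by
    have h5 := (Nat.modEq_iff_dvd' hpos).1 h1.symm
    obtain ⟨k, hk⟩ := h5
    exact ⟨k, by omega⟩
  refine ⟨_, k, h2, ?_⟩
  rw [← h4, hk, hcent]
  ring

/-! ### An involution -/

/-- the code word -/
def c0 : golayCode := ⟨word 340831, (mem_golayCode_iff _).2 (by rw [maskW_word (by norm_num)]; decide +kernel)⟩

theorem c0_apply (p : GolayPt) : (c0 : GolayPt → ZMod 2) p = if (340831 : ℕ).testBit (idx p) then 1 else 0 := rfl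

theorem c0_inv : wordPerm ⟨pi11, pi11_mem⟩ c0 = c0 := by
  apply Subtype.ext
  funext i
  rw [wordPerm_apply]
  obtain ⟨q, rfl⟩ := pi11.surjective i
  change (c0 : GolayPt → ZMod 2) (pi11.symm (pi11 q)) = (c0 : GolayPt → ZMod 2) (pi11 q)
  rw [Equiv.symm_apply_apply, c0_apply, c0_apply, idx_pi11]
  have h : ∀ i < 24, (340831 : ℕ).testBit (F11.getD i 0) = (340831 : ℕ).testBit i := by decide +kernel
  rw [h _ (idx_lt q)]

theorem c0_comm : signCo0 c0 * r11 = r11 * signCo0 c0 := by
  have h := perm_mul_sign_mul_inv ⟨pi11, pi11_mem⟩ c0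
  rw [c0_inv, mul_inv_eq_iff_eq_mul] at h
  exact h.symm

theorem c0_ne : mk (signCo0 c0) ≠ 1 := by
  intro h
  have key : ∀ c d : golayCode, signCo0 c = signCo0 d → ∀ p, sgn ((c : GolayPt → ZMod 2) p) = sgn ((d : GolayPt → ZMod 2) p) := by
    intro c d hcd p
    have h1 : ((signCo0 c • e8 p : leechLattice) : GolayPt → ℤ) p = ((signCo0 d • e8 p : leechLattice) : GolayPt → ℤ) p := by
      rw [hcd]
    rw [signCo0_smul, signCo0_smul, signMap_apply, signMap_apply, e8_coe, Pi.single_eq_same] at h1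
    omega
  rcases (mk_eq_one _).1 h with h1 | h1
  · rw [← signCo0_zero] at h1
    have h2 := key _ _ h1 (pt 0)
    revert h2
    decide
  · have h2 := key _ _ h1 (pt 23)
    revert h2
    decide

theorem two_dvd : 2 ∣ Nat.card ↥(centralizer ({s11} : Set Co1)) := by
  have hm : mk (signCo0 c0) ∈ centralizer ({s11} : Set Co1) := by
    rw [mem_centralizer_singleton_iff]
    show mk (signCo0 c0 * r11) = mk (r11 * signCo0 c0)
    rw [c0_comm]
  have : Fact (Nat.Prime 2) := ⟨Nat.prime_two⟩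
  have ho : orderOf (mk (signCo0 c0)) = 2 := by
    refine orderOf_eq_prime ?_ c0_ne
    have h1 : (mk (signCo0 c0)) ^ 2 = mk (signCo0 c0 * signCo0 c0) := by rw [pow_two]; rfl
    rw [h1, signCo0_mul_self]
    rfl
  rw [← ho, ← Subgroup.orderOf_mk _ hm]
  exact orderOf_dvd_natCard _

/-- **`|C_{Co1}(s)| = 66`** -/
theorem card_cent_s11_eq : Nat.card ↥(centralizer ({s11} : Set Co1)) = 66 := by
  have hfin := finite_co1
  have h1 := MElevenCo.card_cent_s11
  have h2 := two_dvd
  have h3 : 11 ∣ Nat.card ↥(centralizer ({s11} : Set Co1)) := by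
    have hm : s11 ∈ centralizer ({s11} : Set Co1) := mem_centralizer_singleton_iff.2 rfl
    have ho := orderOf_s11
    rw [← ho, ← Subgroup.orderOf_mk _ hm]
    exact orderOf_dvd_natCard _
  have hpos : 0 < Nat.card ↥(centralizer ({s11} : Set Co1)) := Nat.card_pos
  obtain ⟨e, k, he, hk⟩ := card_eq (by norm_num) orderOf_s11 (by rw [card_co1]; norm_num)
  rw [card_co1] at hk
  generalize Nat.card ↥(centralizer ({s11} : Set Co1)) = c at *
  have h4 : 22 ∣ c := Nat.Coprime.mul_dvd_of_dvd_of_dvd (m := 2) (n := 11) (by norm_num) h2 h3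
  obtain ⟨j, rfl⟩ := h4
  have hj : j = 1 ∨ j = 2 ∨ j = 3 := by omega
  have he' : e = 1 ∨ e = 2 ∨ e = 5 ∨ e = 10 := by
    have h5 : e ≤ 10 := Nat.le_of_dvd (by norm_num) he
    interval_cases e <;> revert he <;> decide
  rcases hj with rfl | rfl | rfl
  · exfalso
    rcases he' with rfl | rfl | rfl | rfl <;> omega
  · exfalso
    rcases he' with rfl | rfl | rfl | rfl <;> omega
  · rfl

/-- **`|C_{Co1}(s)| = 66`** -/
theorem card_cent_eq {s : Co1} (hs : orderOf s = 11) : Nat.card ↥(centralizer ({s} : Set Co1)) = 66 := by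
  obtain ⟨g, hg⟩ := conj_eleven hs
  rw [CoZero.card_centralizer_of_conj (by norm_num) hs orderOf_s11 hg]
  exact card_cent_s11_eq

end Cfsg.Agent.H546.MElevenB

namespace Cfsg.Agent.H546.MElevenA

open Cfsg Cfsg.Agent.MonsterU
open Cfsg.Agent.MonsterU.Lam2
open Cfsg.Agent.BpSpor.MBigModel Cfsg.Agent.BpSpor.MBigEleven
open Cfsg.Agent.MonsterX
open Cfsg.Agent.LThreeMB (fr)
open Cfsg.Agent.LThreeMB
open Cfsg.Spor (Co1)
open Subgroup (centralizer zpowers mem_centralizer_singleton_iff)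

/-- **The order of `C(zz) ∩ C(x)`.** -/
theorem card_D {x : MG} (hx : orderOf x = 11) (hz : x * zz = zz * x) : Nat.card ↥(D x) = 2112 := by
  have hfin := finite
  have hfc := BpSpor.MBigCo.finite_co1
  let f : ↥(D x) →* Co1 := pi.comp (Subgroup.inclusion inf_le_left)
  have h1 : f.range = centralizer ({pi (up hz)} : Set Co1) := by
    apply le_antisymm
    · rintro _ ⟨d, rfl⟩
      rw [mem_centralizer_singleton_iff]
      show pi (Subgroup.inclusion inf_le_left d) * pi (up hz) = pi (up hz) * pi (Subgroup.inclusion inf_le_left d)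
      rw [← map_mul, ← map_mul]
      congr 1
      exact Subtype.ext (mem_centralizer_singleton_iff.1 d.2.2)
    · intro s hs
      obtain ⟨c, hc, rfl⟩ := MFive.exists_lift chart prime11 (by decide) (up_pow hx hz)
        (mem_centralizer_singleton_iff.1 hs)
      have hcm : (c : MG) ∈ D x := mem_D.2 ⟨mem_centralizer_singleton_iff.1 c.2, congrArg Subtype.val hc⟩
      exact ⟨⟨c, hcm⟩, rfl⟩
  have h2 : Nat.card f.ker = 32 := by
    rw [← card_T hx hz]
    refine Nat.card_congr
      { toFun := fun d => ⟨((d : ↥(D x)) : MG), ?_⟩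
        invFun := fun q => ⟨⟨q, T_le x q.2⟩, ?_⟩
        left_inv := fun d => rfl
        right_inv := fun q => rfl }
    · rw [mem_T]
      exact ⟨(chart.pi_eq_one _).1 ((MonoidHom.mem_ker).1 d.2), mem_centralizer_singleton_iff.1 d.1.2.2⟩
    · rw [MonoidHom.mem_ker]
      exact (chart.pi_eq_one _).2 (mem_T.1 q.2).1
  have h3 : Nat.card ↥(D x) = Nat.card f.ker * Nat.card f.range := by
    rw [← Subgroup.card_mul_index f.ker, Subgroup.index_ker]
  rw [h3, h1, h2, MElevenB.card_cent_eq (orderOf_pi hx hz)]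

end Cfsg.Agent.H546.MElevenA
end

private theorem dce_74b7e59d8f25 : _root_.True := by
  try have : _root_.True := by simp only [_root_.Cfsg.Agent.H546.MElevenA.up.eq_1]
  exact _root_.True.intro
end

-- part: H300/SB/ChrBound
section
prune_inst 0x1000410034220000000000002200246032000002004300002000000005c1044080040620b2b00010100418044038000000000000000000000a000000011a00800000000000000000000000000000000000000000000000000000000000000000000000000
set_option linter.all false
open scoped Cfsg.Agent.FastGrp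

/-!
# A bound of the trace of an element of `C(z)` of the model of the Monster (helper300, for helper619)

`chi_le` : `|chi A| ≤ 24`; `card_le` : at most `2 fr (pi x)` elements `p` of the extraspecial group have
`α p ∈ {p, zc p}`; `abs_chr_data`, `abs_chr` : `|chr x| ≤ 300 + fr + 24 √fr`; `abs_chr_le` : the bound `6000` for `fr (pi x) = 2 ^ 12`.
-/

set_option autoImplicit false

namespace Cfsg.Agent.H300.SB.ChrBound

open Cfsg Cfsg.Spor Cfsg.Agent.LeechMat.Core Cfsg.Agent.MonsterX.KSide Cfsg.Agent.MonsterX.KLift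
open Cfsg.Agent.LThreeMBTr Cfsg.Agent.LThreeMB
open Cfsg.Agent.MonsterU.Lam2 Cfsg.Agent.MonsterU.TwoCls Cfsg.Agent.MonsterU.TwoQ
open Cfsg.Agent.SigZeroCo2.Lin (rep)
open Subgroup (centralizer mem_centralizer_singleton_iff)

theorem abs_diag (A : Co0) (p : GolayPt) : |rep A (Pi.single p 1) p| ≤ 1 := by
  have h := norm_rep A p
  generalize rep A (Pi.single p 1) = r at h ⊢
  have h1 : r p * r p ≤ 1 := by
    rw [← h]
    exact Finset.single_le_sum (f := fun q => r q * r q) (fun q _ => mul_self_nonneg _) (Finset.mem_univ p)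
  rw [← abs_mul_abs_self] at h1
  nlinarith [abs_nonneg (r p)]

theorem chi_le (A : Co0) : |chi A| ≤ 24 := by
  rw [chi_sum]
  refine (Finset.abs_sum_le_sum_abs _ _).trans ?_
  refine (Finset.sum_le_sum fun i _ => abs_diag A i).trans ?_
  have h2 : Fintype.card GolayPt = 24 := by decide
  rw [Finset.sum_const, Finset.card_univ, h2]
  norm_num

section gen

variable {G V P W : Type*} [Group G] [AddCommGroup V] [Module ℚ V]
  [DistribMulAction G V] [SMulCommClass G ℚ V] [Group P] [AddCommGroup W] [Module ℚ W]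
  {M : KS G V P W} {θ : leechLattice → P}

/-- the number of elements fixed up to the centre -/
theorem card_le (L : Lift M θ) [Fintype P] [DecidableEq P] {k : G} {A : Co0} {α : P ≃* P} {T : Module.End ℚ W}
    (hA : Acts M.Sh M.lam M.u M.X M.Θ M.ρ k A α T) :
    (Finset.univ.filter fun p => α p = p ∨ α p = M.zc * p).card ≤ 2 * fr (QuotientGroup.mk A : Co1) := by
  classical
  let f : {p : P // α p = p ∨ α p = M.zc * p} → {v : L2 // (QuotientGroup.mk A : Co1) • v = v} := fun p =>
    ⟨clP L p, by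
      rw [mk_smul, ← clP_act L hA]
      exact (clP_eq' L).2 p.2⟩
  have hfin : Finite {v : L2 // (QuotientGroup.mk A : Co1) • v = v} := by
    have : Finite L2 := Finite.of_surjective (clP L) (clP_surjective L)
    infer_instance
  have hft : Fintype {v : L2 // (QuotientGroup.mk A : Co1) • v = v} := Fintype.ofFinite _
  have h1 : Fintype.card {p : P // α p = p ∨ α p = M.zc * p} ≤
      2 * Fintype.card {v : L2 // (QuotientGroup.mk A : Co1) • v = v} := by
    rw [← Finset.card_univ, ← Finset.card_univ (α := {v : L2 // (QuotientGroup.mk A : Co1) • v = v})]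
    refine Finset.card_le_mul_card_image_of_maps_to (f := f) (fun _ _ => Finset.mem_univ _) 2 ?_
    intro v _
    by_cases hv : ∃ p, f p = v
    · obtain ⟨p, rfl⟩ := hv
      have h2 : Finset.image Subtype.val (Finset.univ.filter fun q => f q = f p) ⊆ {(p : P), M.zc * p} := by
        intro q hq
        obtain ⟨q, hq', rfl⟩ := Finset.mem_image.1 hq
        have h0 : f q = f p := (Finset.mem_filter.1 hq').2
        have h3 : clP L (q : P) = clP L (p : P) := congrArg Subtype.val h0
        rw [Finset.mem_insert, Finset.mem_singleton]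
        exact (clP_eq' L).1 h3
      rw [← Finset.card_image_of_injective _ Subtype.val_injective]
      exact (Finset.card_le_card h2).trans Finset.card_le_two
    · push Not at hv
      rw [Finset.filter_false_of_mem (fun q _ => hv q), Finset.card_empty]
      norm_num
  rw [Fintype.card_subtype] at h1
  unfold fr
  rw [Nat.card_eq_fintype_card]
  exact h1

/-- **The bound of the trace.** -/
theorem abs_chr_data (L : Lift M θ) (H : Tens M) {k : G} {A : Co0} {α : P ≃* P} {T : Module.End ℚ W}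
    (hA : Acts M.Sh M.lam M.u M.X M.Θ M.ρ k A α T) {n : ℕ} (hn : fr (QuotientGroup.mk A : Co1) ≤ n ^ 2) :
    |chr V k| ≤ 300 + n ^ 2 + 24 * n := by
  classical
  obtain ⟨hfin, J, _, _, b, hJ, hb⟩ := H
  have hfinP : Finite P := Nat.finite_of_card_ne_zero (by rw [L.card]; norm_num)
  have : Fintype P := Fintype.ofFinite P
  have hc := card_le L hA
  have hcn : ((Finset.univ.filter fun p => α p = p ∨ α p = M.zc * p).card : ℚ) ≤ 2 * (n : ℚ) ^ 2 := by
    have : (Finset.univ.filter fun p => α p = p ∨ α p = M.zc * p).card ≤ 2 * n ^ 2 := by omega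
    exact_mod_cast this
  rw [chr_eq M hb hA]
  -- the symmetric square
  have h1 : |(chi A ^ 2 + chi (A * A)) / 2| ≤ 300 := by
    have e1 := abs_le.1 (chi_le A)
    have e2 := abs_le.1 (chi_le (A * A))
    rw [abs_le]
    constructor <;> nlinarith [sq_nonneg (chi A)]
  -- the permutation part
  have h2 : |∑ x ∈ Finset.univ.filter (· ∈ M.Sh), 2⁻¹ * M.B (M.X (α x)) (M.X x)| ≤ (n : ℚ) ^ 2 := by
    refine (Finset.abs_sum_le_sum_abs _ _).trans ?_
    have h3 : ∀ x ∈ Finset.univ.filter (· ∈ M.Sh), |2⁻¹ * M.B (M.X (α x)) (M.X x)| ≤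
        if α x = x ∨ α x = M.zc * x then (2⁻¹ : ℚ) else 0 := by
      intro x hx
      have hx' : x ∈ M.Sh := (Finset.mem_filter.1 hx).2
      by_cases e1 : α x = x
      · rw [if_pos (Or.inl e1), e1, M.B_XX x hx', mul_one, abs_of_pos (by norm_num)]
      · by_cases e2 : α x = M.zc * x
        · rw [if_pos (Or.inr e2), e2, M.X_z x hx', map_neg, LinearMap.neg_apply, M.B_XX x hx', mul_neg, mul_one,
            abs_neg, abs_of_pos (by norm_num)]
        · rw [if_neg (by tauto)]
          rw [M.B_comm, M.B_XX' x hx' _ (hA.act_sh x hx') e1 e2, mul_zero, abs_zero]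
    refine (Finset.sum_le_sum h3).trans ?_
    rw [← Finset.sum_filter, Finset.sum_const, nsmul_eq_mul]
    have h4 : ((Finset.univ.filter (· ∈ M.Sh)).filter fun x => α x = x ∨ α x = M.zc * x).card ≤
        (Finset.univ.filter fun p => α p = p ∨ α p = M.zc * p).card := by
      apply Finset.card_le_card
      intro x hx
      rw [Finset.mem_filter] at hx ⊢
      exact ⟨Finset.mem_univ _, hx.2⟩
    have h5 : (((Finset.univ.filter (· ∈ M.Sh)).filter fun x => α x = x ∨ α x = M.zc * x).card : ℚ) ≤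
      ((Finset.univ.filter fun p => α p = p ∨ α p = M.zc * p).card : ℚ) := by exact_mod_cast h4
    linarith
  -- the tensor part
  have h6 : |LinearMap.trace ℚ W T| ≤ n := by
    have h7 := tr_sq M hb hJ L hA
    have h8 : ((Finset.univ.filter fun p => α p = p).card : ℚ) ≤
        (Finset.univ.filter fun p => α p = p ∨ α p = M.zc * p).card := by
      have : (Finset.univ.filter fun p => α p = p).card ≤
          (Finset.univ.filter fun p => α p = p ∨ α p = M.zc * p).card := by
        apply Finset.card_le_card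
        intro x hx
        rw [Finset.mem_filter] at hx ⊢
        exact ⟨hx.1, Or.inl hx.2⟩
      exact_mod_cast this
    have h9 : (0 : ℚ) ≤ (Finset.univ.filter fun p => α p = M.zc * p).card := by positivity
    have h10 : LinearMap.trace ℚ W T ^ 2 ≤ (n : ℚ) ^ 2 := by linarith
    exact abs_le_of_sq_le_sq h10 (by positivity)
  have h11 : |chi A * LinearMap.trace ℚ W T| ≤ 24 * n := by
    rw [abs_mul]
    exact mul_le_mul (chi_le A) h6 (abs_nonneg _) (by norm_num)
  have h12 := abs_add_three ((chi A ^ 2 + chi (A * A)) / 2)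
    (∑ x ∈ Finset.univ.filter (· ∈ M.Sh), 2⁻¹ * M.B (M.X (α x)) (M.X x)) (chi A * LinearMap.trace ℚ W T)
  linarith

/-- The bound for an element of `C(z)`. -/
theorem abs_chr (L : Lift M θ) (hc : KChart.Cent M) (H : Tens M) {x : centralizer ({M.z} : Set G)} {n : ℕ}
    (hfr : fr (KChart.pi hc x) ≤ n ^ 2) : |chr V (x : G)| ≤ 300 + n ^ 2 + 24 * n := by
  have hxK : (x : G) ∈ M.K := hc x (mem_centralizer_singleton_iff.1 x.2)
  obtain ⟨A, α, T, hA⟩ := M.acts x hxK
  refine abs_chr_data L H hA (n := n) ?_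
  rwa [← KChart.pi_eq hc hA.act_u]

end gen

open Cfsg.Agent.BpSpor.MBigModel

/-- **The bound of the trace of the elements of fixed rank 12.** -/
theorem abs_chr_le {x : centralizer ({zz} : Set MG)} (hfr : fr (pi x) = 2 ^ 12) :
    |chr Cfsg.Agent.MonsterX.Space.V (x : MG)| ≤ 6000 := by
  have h := abs_chr Cfsg.Agent.MonsterX.KDone.lft LThreeB.Row.cent TensK.tens (x := x) (n := 64) (by
    have h1 : fr (KChart.pi LThreeB.Row.cent x) = 2 ^ 12 := hfr
    rw [h1]; norm_num)
  refine h.trans ?_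
  norm_num

end Cfsg.Agent.H300.SB.ChrBound

private theorem dce_d820b1352857 : _root_.True := by
  try have : _root_.True := by simp only [_root_.Cfsg.Agent.MonsterX.KSide.KS.congr_simp]
  exact _root_.True.intro
end

-- part: H820/Par/Base
section
prune_inst 0x5000006200000018000022003c6692000092004b8001610000400dc08e41a0010621b0f0021081100cf4603a804811000109023000002a008a0041190080040320e20034bc0017000080c802100000000000000000000000000000000000000000000
set_option linter.all false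
open scoped Cfsg.Agent.FastGrp

/-!
# S2198: `J₃` is not a subgroup of the Monster — interface (helper820)

`JC z` : the subgroup `2^{1+4}_-:A₅` (the centraliser of the involution `z` of `J₃`): `e i j` is the product `e_i e_j` of
two Clifford generators, `k` the complement `A₅` permuting the five generators.

The statements `OctLiftStmt`, `DodStmt`, `NegStmt`, `CaseTwoStmt`, `EOneStmt`, `ETwoStmt`, `EFourStmt`, `JSideStmt` are the
pieces of the proof.
-/

set_option autoImplicit false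

namespace Cfsg.Agent.H820.Par

open Cfsg Cfsg.Spor Cfsg.Agent.MonsterX Cfsg.Agent.BpSpor.MBigModel Cfsg.Agent.MonsterU Cfsg.Agent.MonsterU.Lam2
open Cfsg.Agent.SporadicA.Co0Mono Cfsg.Agent.SporadicA.Co1Simple Cfsg.Agent.CoOneType.ClosingFacts
open Subgroup (centralizer mem_centralizer_singleton_iff)

/-! ### The subgroup `2^{1+4}_-:A₅` -/

/-- `2^{1+4}_-:A₅` in a group all of whose involutions (in `J`) are conjugate to `z`. -/
structure JC {G : Type*} [Group G] (z : G) where
  /-- the ambient subgroup -/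
  J : Subgroup G
  /-- `e i j = e_i e_j` -/
  e : Fin 5 → Fin 5 → G
  /-- the complement -/
  k : alternatingGroup (Fin 5) →* G
  e_mem : ∀ i j, e i j ∈ J
  k_mem : ∀ σ, k σ ∈ J
  z_ne : z ≠ 1
  e_mul : ∀ i j l, e i j * e j l = e i l
  e_sq : ∀ i j, i ≠ j → e i j * e i j = z
  e_comm : ∀ i j l m, i ≠ l → i ≠ m → j ≠ l → j ≠ m → e i j * e l m = e l m * e i j
  k_conj : ∀ σ i j, k σ * e i j * (k σ)⁻¹ = e ((σ : Equiv.Perm (Fin 5)) i) ((σ : Equiv.Perm (Fin 5)) j)
  inv : ∀ x ∈ J, x * x = 1 → x ≠ 1 → ∃ g : G, g * z * g⁻¹ = x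

namespace JC

variable {G : Type*} [Group G] {z : G} (C : JC z)

include C

theorem e_self (i : Fin 5) : C.e i i = 1 := by
  have h := C.e_mul i i i
  exact mul_eq_left.1 h

theorem zsq : z * z = 1 := by
  have h1 := C.e_sq 0 1 (by decide)
  have h2 := C.e_sq 1 0 (by decide)
  calc z * z = (C.e 0 1 * C.e 0 1) * (C.e 1 0 * C.e 1 0) := by rw [h1, h2]
    _ = C.e 0 1 * (C.e 0 1 * C.e 1 0) * C.e 1 0 := by group
    _ = 1 := by rw [C.e_mul, C.e_self, mul_one, C.e_mul, C.e_self]

theorem z_mem : z ∈ C.J := by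
  have h := mul_mem (C.e_mem 0 1) (C.e_mem 0 1)
  rwa [C.e_sq 0 1 (by decide)] at h

theorem e_z (i j : Fin 5) : C.e i j * z = z * C.e i j := by
  by_cases h : i = j
  · subst h; rw [C.e_self, one_mul, mul_one]
  · have h1 := C.e_sq i j h
    calc C.e i j * z = C.e i j * (C.e i j * C.e i j) := by rw [h1]
      _ = (C.e i j * C.e i j) * C.e i j := by group
      _ = z * C.e i j := by rw [h1]

theorem k_z (σ : alternatingGroup (Fin 5)) : C.k σ * z = z * C.k σ := by
  have h1 : C.k σ * (C.e 0 1 * C.e 0 1) * (C.k σ)⁻¹ = z := by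
    have h2 : C.k σ * (C.e 0 1 * C.e 0 1) * (C.k σ)⁻¹ =
        (C.k σ * C.e 0 1 * (C.k σ)⁻¹) * (C.k σ * C.e 0 1 * (C.k σ)⁻¹) := by group
    rw [h2, C.k_conj, C.e_sq]
    exact fun h => absurd ((σ : Equiv.Perm (Fin 5)).injective h) (by decide)
  rw [C.e_sq 0 1 (by decide)] at h1
  exact mul_inv_eq_iff_eq_mul.1 h1

/-- the reversed generator -/
theorem e_swap {i j : Fin 5} (h : i ≠ j) : C.e j i = z * C.e i j := by
  calc C.e j i = C.e j i * (C.e j i * C.e i j) := by rw [C.e_mul, C.e_self, mul_one]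
    _ = (C.e j i * C.e j i) * C.e i j := by group
    _ = z * C.e i j := by rw [C.e_sq j i h.symm]

end JC

/-- The first of the four other points, in an order depending evenly on `i`. -/
def nx : Fin 5 → Fin 4 → Fin 5
  | 4, 0 => 0 | 4, 1 => 1 | 4, 2 => 2 | 4, 3 => 3
  | 0, 0 => 1 | 0, 1 => 2 | 0, 2 => 3 | 0, 3 => 4
  | 1, 0 => 2 | 1, 1 => 3 | 1, 2 => 4 | 1, 3 => 0
  | 2, 0 => 3 | 2, 1 => 4 | 2, 2 => 0 | 2, 3 => 1
  | 3, 0 => 4 | 3, 1 => 0 | 3, 2 => 1 | 3, 3 => 2

namespace JC

variable {G : Type*} [Group G] {z : G} (C : JC z)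

/-- `u i`: the involution of `2^{1+4}_-` over the four-element set without `i`; `u 4 = e 0 1 * e 2 3`. -/
def u (i : Fin 5) : G := C.e (nx i 0) (nx i 1) * C.e (nx i 2) (nx i 3)

/-- the subgroup `2^{1+4}_-` -/
def O : Subgroup G := Subgroup.closure (Set.range fun p : Fin 5 × Fin 5 => C.e p.1 p.2)

end JC

/-! ### Case 2 data -/

/-- `JC` together with data outside of the centraliser of `z`. -/
structure JD {G : Type*} [Group G] (z : G) extends JC z where
  g : G
  p : G
  q : G
  x : G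
  g_z : g * z * g⁻¹ = toJC.u 4
  p_mem : ∃ s ∈ toJC.O, p = g * s * g⁻¹
  q_mem : ∃ s ∈ toJC.O, q = g * s * g⁻¹
  p_z : p * z = z * p
  q_z : q * z = z * q
  x_mem : x ∈ toJC.O
  x_u : x * toJC.u 4 = toJC.u 4 * x * z
  prod : x * (p * x * p⁻¹) * (q * x * q⁻¹) * ((p * q) * x * (p * q)⁻¹) = toJC.u 4 ∨
    x * (p * x * p⁻¹) * (q * x * q⁻¹) * ((p * q) * x * (p * q)⁻¹) = toJC.u 4 * z

/-- **J-side.** -/
def JSideStmt : Prop := ∀ {H : Type} [Group H], Spor.IsoJ3 H →
  ∃ (z : H) (_ : JD z) (g : H), 6 < orderOf (z * (g * z * g⁻¹))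

/-! ### The Monster side -/

/-- the group `O₂(C(z))` -/
noncomputable abbrev QQ : Subgroup MG := KDone.K.ι.range

/-- the map `Q → Λ/2Λ` -/
noncomputable abbrev eta : MG → L2 := LThreeMB.KChart.eta KDone.lft

/-- the centraliser of `z` -/
noncomputable abbrev CZ : Subgroup MG := centralizer ({zz} : Set MG)

theorem chart : Ch.Chart QQ zz eta pi := Cfsg.Agent.BpSpor.MBigModel.chart

/-- the class `2B` -/
def TwoB (x : MG) : Prop := ∃ g : MG, g * zz * g⁻¹ = x

/-- `g` is an involution of trace `8` of `Co₀`: conjugate to the sign change on an octad. -/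
def IsOct (g : Co0) : Prop := ∃ (h : Co0) (c : golayCode),
  support₂ (c : GolayPt → ZMod 2) ∈ octads ∧ h * g * h⁻¹ = signCo0 c

/-- `g` is an involution of trace `0` of `Co₀`: conjugate to the sign change on a dodecad. -/
def IsDod (g : Co0) : Prop := ∃ (h : Co0) (c : golayCode),
  support₂ (c : GolayPt → ZMod 2) ∈ dodecads ∧ h * g * h⁻¹ = signCo0 c

/-- `g² = -1`. -/
def IsNeg (g : Co0) : Prop := g * g = signCo0 allOne

/-- **(M1)** over every involution `g` of trace `8` there is an involution `x₀` of `C(z)`, not in the class `2B`, commuting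
with all elements of `Q` over fixed points of `g`. -/
def OctLiftStmt : Prop := ∀ g : Co0, IsOct g → ∃ x₀ : CZ, pi x₀ = _root_.Cfsg.Agent.CoOneType.ClosingFacts.mk g ∧ x₀ * x₀ = 1 ∧
  (∀ q ∈ QQ, g • eta q = eta q → (x₀ : MG) * q = q * x₀) ∧ ¬ TwoB (x₀ : MG)

/-- **(M2)** nothing over an involution of trace `0` squares to `z`. -/
def DodStmt : Prop := ∀ g : Co0, IsDod g → ∀ x : CZ, pi x = _root_.Cfsg.Agent.CoOneType.ClosingFacts.mk g → (x : MG) * x ≠ zz

/-- **Case 2**: `O ≤ Q`. -/
def CaseTwoStmt : Prop := ∀ g a p q x : MG, a ∈ QQ → g * zz * g⁻¹ = a → a ≠ zz → x ∈ QQ → x * a = a * x * zz →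
  (∃ s ∈ QQ, p = g * s * g⁻¹) → (∃ s ∈ QQ, q = g * s * g⁻¹) → p * zz = zz * p → q * zz = zz * q →
  (x * (p * x * p⁻¹) * (q * x * q⁻¹) * ((p * q) * x * (p * q)⁻¹) = a ∨
    x * (p * x * p⁻¹) * (q * x * q⁻¹) * ((p * q) * x * (p * q)⁻¹) = a * zz) → False

/-! ### Case 1 -/

namespace JC

/-- `e i j` in the centraliser of `z` -/
noncomputable def ce (C : JC zz) (i j : Fin 5) : CZ := ⟨C.e i j, mem_centralizer_singleton_iff.2 (C.e_z i j)⟩

/-- `u i` in the centraliser of `z` -/
noncomputable def cu (C : JC zz) (i : Fin 5) : CZ := C.ce (nx i 0) (nx i 1) * C.ce (nx i 2) (nx i 3)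

/-- the complement in the centraliser of `z` -/
noncomputable def ck (C : JC zz) : alternatingGroup (Fin 5) →* CZ where
  toFun σ := ⟨C.k σ, mem_centralizer_singleton_iff.2 (C.k_z σ)⟩
  map_one' := Subtype.ext C.k.map_one
  map_mul' a b := Subtype.ext (C.k.map_mul a b)

theorem coe_ce (C : JC zz) (i j : Fin 5) : (C.ce i j : MG) = C.e i j := rfl

end JC

/-- The elementary abelian case: the images of the `u i` in `Co₁` have commuting lifts `U i` of order 2 with product 1,
permuted by the lifts of the `k σ`; the products of two of them have trace `8`. -/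
structure EA (C : JC zz) where
  U : Fin 5 → Co0
  sq : ∀ i, U i * U i = 1
  comm : ∀ i j, U i * U j = U j * U i
  prod : U 0 * U 1 * U 2 * U 3 * U 4 = 1
  mk_U : ∀ i, _root_.Cfsg.Agent.CoOneType.ClosingFacts.mk (U i) = pi (C.cu i)
  mk_UU : ∀ i j, i ≠ j → _root_.Cfsg.Agent.CoOneType.ClosingFacts.mk (U i * U j) = pi (C.ce i j)
  conj : ∀ (σ : alternatingGroup (Fin 5)) (κ : Co0), _root_.Cfsg.Agent.CoOneType.ClosingFacts.mk κ = pi (C.ck σ) →
    ∀ i, κ * U i * κ⁻¹ = U ((σ : Equiv.Perm (Fin 5)) i)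
  octUU : ∀ i j, i ≠ j → IsOct (U i * U j)

/-- **E1**: the `U i` have trace `-8`. -/
def EOneStmt : Prop := ∀ (C : JC zz) (A : EA C), (∀ i, IsOct (signCo0 allOne * A.U i)) → False

/-- **E2**: the `U i` have trace `8`. -/
def ETwoStmt : Prop := ∀ (C : JC zz) (A : EA C), (∀ i, IsOct (A.U i)) → False

/-- **E4**: the elements over `e i j` have square `-1`, those over `u i` trace `0`. -/
def EFourStmt : Prop := ∀ C : JC zz, (∀ i j, i ≠ j → ∀ g : Co0, _root_.Cfsg.Agent.CoOneType.ClosingFacts.mk g = pi (C.ce i j) → IsNeg g) →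
  (∀ i, ∀ g : Co0, _root_.Cfsg.Agent.CoOneType.ClosingFacts.mk g = pi (C.cu i) → IsDod g) → False

end Cfsg.Agent.H820.Par
end
end
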